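import Cfsg.Agent.Lib.FB.Red
import Cfsg.Agent.Lib.PGroup.Frattini
import Cfsg.Agent.S3947

/-! Flavell's `F₂` theorem, part 3: local lemmas. -/

set_option autoImplicit false
set_option linter.unusedSectionVars false

namespace H81.FB
open Subgroup H68 Cfsg
open scoped commutatorElement

local notation:max "𝐂(" A ")" => Subgroup.centralizer (SetLike.coe A)
local notation:max "𝐍(" A ")" => Subgroup.normalizer (SetLike.coe A)
local notation:max "𝐂[" x "]" => Subgroup.centralizer (Singleton.singleton x)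

variable {G : Type*} [Group G] {p q : ℕ}

theorem cm1 {x y : G} : x ∈ 𝐂[y] ↔ x * y = y * x := mem_centralizer_singleton_iff

theorem c_zp (x : G) : 𝐂(zpowers x) = 𝐂[x] := by rw [zpowers_eq_closure, centralizer_closure]

theorem c_nzp {x c : G} (h : c ∈ 𝐂[x]) : c ∈ 𝐍(zpowers x) := c_le_n _ (c_zp x ▸ h)

theorem c_nc {x c : G} (h : c ∈ 𝐂[x]) : c ∈ 𝐍(𝐂[x]) := le_normalizer h

theorem n_comm {g : G} {A B : Subgroup G} (h1 : g ∈ 𝐍(A)) (h2 : g ∈ 𝐍(B)) : g ∈ 𝐍(⁅A, B⁆) :=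
  normalizer_inf_le_normalizer_commutator A B ⟨h1, h2⟩

theorem n_inf {g : G} {A B : Subgroup G} (h1 : g ∈ 𝐍(A)) (h2 : g ∈ 𝐍(B)) : g ∈ 𝐍(A ⊓ B) :=
  H2.le_normalizer_inf (zpowers_le.2 h1) (zpowers_le.2 h2) (mem_zpowers g)

theorem n_sup {g : G} {A B : Subgroup G} (h1 : g ∈ 𝐍(A)) (h2 : g ∈ 𝐍(B)) : g ∈ 𝐍(A ⊔ B) :=
  H2.le_normalizer_sup (zpowers_le.2 h1) (zpowers_le.2 h2) (mem_zpowers g)

theorem n_n {g : G} {A : Subgroup G} (h : g ∈ 𝐍(A)) : g ∈ 𝐍(𝐍(A)) := le_normalizer h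

theorem n_c {g : G} {A : Subgroup G} (h : g ∈ 𝐍(A)) : g ∈ 𝐍(𝐂(A)) :=
  normalizer_le_normalizer_centralizer A h

theorem n_core {g : G} {H : Subgroup G} (h : g ∈ H) : g ∈ 𝐍(pCoreOf q H) := H1.le_normalizer_pCoreOf H h

theorem comm_le {T M : Subgroup G} {x : G} (hx : x ∈ 𝐍(M)) (h : ∀ t ∈ T, ⁅t, x⁆ ∈ M) :
    ⁅T, zpowers x⁆ ≤ M := by
  rw [commutator_comm, zpowers_eq_closure]
  refine H2.commutator_closure_le (by rintro _ rfl; exact hx) ?_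
  rintro _ rfl z hz
  rw [← commutatorElement_inv]; exact inv_mem (h z hz)

theorem comm_le_self {T : Subgroup G} {x : G} (hx : x ∈ 𝐍(T)) : ⁅T, zpowers x⁆ ≤ T :=
  comm_le hx fun _ ht => cl ht hx

theorem mem_comm {T : Subgroup G} {t : G} (x : G) (ht : t ∈ T) : ⁅t, x⁆ ∈ ⁅T, zpowers x⁆ :=
  commutator_mem_commutator ht (mem_zpowers x)

theorem x_comm (T : Subgroup G) (x : G) : x ∈ 𝐍(⁅T, zpowers x⁆) :=
  normalizer_commutator_ge_right _ _ (mem_zpowers x)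

theorem comm_bot {T : Subgroup G} {x : G} : ⁅T, zpowers x⁆ = ⊥ ↔ T ≤ 𝐂[x] := by
  rw [commutator_eq_bot_iff_le_centralizer, c_zp]

theorem pow_mod {V : Subgroup G} {w x : G} (hx : x ∈ 𝐍(V)) (hw : w ∈ 𝐍(V)) (h : ⁅w, x⁆ ∈ V) (n : ℕ) :
    (w * x) ^ n * (x ^ n)⁻¹ * (w ^ n)⁻¹ ∈ V := by
  haveI : (V.subgroupOf 𝐍(V)).Normal := normal_subgroupOf_of_le_normalizer le_rfl
  let π := QuotientGroup.mk' (V.subgroupOf 𝐍(V))
  have k : ∀ a : 𝐍(V), π a = 1 ↔ (a : G) ∈ V := fun a => QuotientGroup.eq_one_iff a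
  have c : Commute (π ⟨w, hw⟩) (π ⟨x, hx⟩) := by
    rw [← commutatorElement_eq_one_iff_commute, ← map_commutatorElement, k]; exact h
  have := (k ((⟨w, hw⟩ * ⟨x, hx⟩) ^ n * (⟨x, hx⟩ ^ n)⁻¹ * (⟨w, hw⟩ ^ n)⁻¹)).1 (by
    simp only [map_mul, map_inv, map_pow, c.mul_pow]; group)
  simpa using this

theorem conj_pow_iter {N : Subgroup G} {g f : G} {j : ℕ} (hg : g ∈ 𝐍(N)) (hf : f ∈ 𝐂(N))
    (h : g * f * g⁻¹ * (f ^ j)⁻¹ ∈ N) (n : ℕ) : g ^ n * f * (g ^ n)⁻¹ * (f ^ j ^ n)⁻¹ ∈ N := by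
  have pw : ∀ a ∈ N, ∀ i m : ℕ, (a * f ^ i) ^ m = a ^ m * f ^ (i * m) := fun a ha i m => by
    rw [((show Commute a f from hf a ha).pow_right i).mul_pow, pow_mul]
  induction n with
  | zero => simp
  | succ n ih =>
    have e : g ^ (n + 1) * f * (g ^ (n + 1))⁻¹ * (f ^ j ^ (n + 1))⁻¹ =
        g * (g ^ n * f * (g ^ n)⁻¹ * (f ^ j ^ n)⁻¹) * g⁻¹ *
        ((g * f * g⁻¹ * (f ^ j)⁻¹ * f ^ j) ^ j ^ n * (f ^ j ^ (n + 1))⁻¹) := by
      rw [inv_mul_cancel_right, conj_pow, pow_succ' g]; group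
    rw [e, pw _ h, ← pow_succ', mul_inv_cancel_right]
    exact mul_mem (cjm hg ih) (pow_mem h _)

variable [Finite G]

theorem jone (hp : p.Prime) {N : Subgroup G} {g f : G} (hg : g ∈ 𝐍(N)) (hf : f ∈ 𝐂(N)) (gp : g ^ p = 1)
    (fp : f ^ p = 1) (hfN : f ∉ N) (h : g * f * g⁻¹ ∈ N ⊔ zpowers f) : ⁅g, f⁆ ∈ N := by
  haveI := Fact.mk hp
  obtain ⟨a, ha, j, e⟩ := (H5.mem_sup_zpowers_iff_nat (c_le_n N hf)).1 h
  have h1 : g * f * g⁻¹ * (f ^ j)⁻¹ ∈ N := by rw [e, mul_inv_cancel_right]; exact ha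
  have h2 := conj_pow_iter hg hf h1 p
  rw [gp, one_mul, inv_one, mul_one, show f * (f ^ j ^ p)⁻¹ = f ^ ((1 : ℤ) - (j ^ p : ℕ)) by
    rw [zpow_sub, zpow_one, zpow_natCast]] at h2
  have h3 := H5.dvd_of_zpow_mem hp hfN (fp ▸ one_mem N) h2
  have h4 : f ^ j = f ^ 1 := by
    refine pow_eq_pow_iff_modEq.2 (Nat.ModEq.of_dvd (orderOf_dvd_of_pow_eq_one fp) ?_)
    rw [← ZMod.intCast_zmod_eq_zero_iff_dvd] at h3
    rw [← ZMod.natCast_eq_natCast_iff]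
    push_cast at h3 ⊢
    rw [ZMod.pow_card] at h3; exact (sub_eq_zero.1 h3).symm
  rw [h4, pow_one] at h1; exact h1

theorem n_closure {S : Set G} {g : G} (h : ∀ s ∈ S, g * s * g⁻¹ ∈ S) : g ∈ 𝐍(closure S) := by
  refine mem_normalizer_of_cj_le ?_
  rw [cj, MonoidHom.map_closure]
  refine closure_mono ?_
  rintro _ ⟨s, hs, rfl⟩; exact h s hs

theorem n_DD {x g : G} {H : Subgroup G} (hg : g ∈ 𝐍(H)) : g ∈ 𝐍(closure {d | IsConj x d ∧ d ∈ H}) :=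
  n_closure fun _ hs => ⟨hs.1.trans (isConj_iff.2 ⟨g, rfl⟩), cjm hg hs.2⟩

theorem PC (hp : p.Prime) {x f : G} {P Y : Subgroup G} (hP : IsPGroup p P) (hYP : Y ≤ P)
    (hY : Y ≤ closure {d | IsConj x d ∧ d ∈ Y}) (hf : IsConj x f) (hfP : f ∈ P) (hfY : f ∉ Y) :
    ∃ e, IsConj x e ∧ e ∈ P ∧ e ∉ Y ∧ e ∈ 𝐍(Y) := by
  haveI := Fact.mk hp
  by_contra hc
  push Not at hc
  have h1 : closure {d | IsConj x d ∧ d ∈ P ⊓ 𝐍(Y)} = Y :=
    le_antisymm ((closure_le _).2 fun d hd => by_contra fun h => hc d hd.1 hd.2.1 h hd.2.2)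
      (hY.trans (closure_mono fun d hd => ⟨hd.1, hYP hd.2, le_normalizer hd.2⟩))
  have h2 : P ≤ 𝐍(Y) := by
    by_contra h
    obtain ⟨g, hg, hg1, hg2⟩ := exists_mem_normalizer_of_lt hP
      (lt_of_le_of_ne (inf_le_left : P ⊓ 𝐍(Y) ≤ P) fun e => h (inf_eq_left.1 e))
    exact hg1 ⟨hg, h1 ▸ n_DD hg2⟩
  exact hc f hf hfP hfY (h2 hfP)

theorem TL (hq : q.Prime) (F : Set (Subgroup G)) (Γ : Subgroup G) (hF : ∀ S ∈ F, IsPGroup q S)
    (hcj : ∀ g ∈ Γ, ∀ S ∈ F, cj g S ∈ F) (h1 : ∀ S ∈ F, ∀ S' ∈ F, S ⊓ S' ∈ F)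
    (h2 : ∀ S ∈ F, ∀ I ∈ F, S ⊓ 𝐍(I) ∈ F)
    (hloc : ∀ I ∈ F, I ≠ ⊥ → ∀ U ∈ F, ∀ U' ∈ F, U ≤ 𝐍(I) → U' ≤ 𝐍(I) →
      ∃ g ∈ Γ, g ∈ 𝐍(I) ∧ ∃ W ∈ F, U ≤ W ∧ cj g U' ≤ W) {S S' : Subgroup G}
    (hS : Maximal (· ∈ F) S) (hS' : Maximal (· ∈ F) S') (hne : S ⊓ S' ≠ ⊥) : ∃ g ∈ Γ, cj g S' = S := by
  haveI := Fact.mk hq
  induction' hn : (S ⊓ S').index using Nat.strong_induction_on with n ih generalizing S S'
  by_cases a : S ≤ S'
  · exact ⟨1, one_mem _, by rw [cj_one]; exact le_antisymm (hS.2 hS'.1 a) a⟩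
  have b : ¬ S' ≤ S := fun b => a (hS'.2 hS.1 b)
  have hI := h1 S hS.1 S' hS'.1
  have l1 := H5.lt_inf_normalizer (hF S hS.1) (lt_of_le_of_ne (inf_le_left : S ⊓ S' ≤ S) fun e => a (inf_eq_left.1 e))
  have l2 := H5.lt_inf_normalizer (hF S' hS'.1) (lt_of_le_of_ne (inf_le_right : S ⊓ S' ≤ S') fun e => b (inf_eq_right.1 e))
  obtain ⟨g, hg, hgI, W, hW, w1, w2⟩ := hloc _ hI hne _ (h2 S hS.1 _ hI) _ (h2 S' hS'.1 _ hI) inf_le_right inf_le_right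
  obtain ⟨T, hWT, hT⟩ := Finite.exists_le_maximal (p := (· ∈ F)) hW
  have m1 : S ⊓ S' < S ⊓ T := l1.trans_le (le_inf inf_le_left (w1.trans hWT))
  have m2 : S ⊓ S' < T ⊓ cj g S' := by
    refine lt_of_lt_of_le ?_ (le_inf (w2.trans hWT) (cj_mono g inf_le_left))
    rw [← cj_eq_of_mem_normalizer hgI]
    nth_rewrite 2 [cj_eq_of_mem_normalizer hgI]
    exact lt_of_le_of_ne (cj_mono g l2.le) fun e => l2.ne (cj_injective g e)
  obtain ⟨g1, a1, b1⟩ := ih _ (hn ▸ index_strictAnti m1) hS hT (fun e => not_lt_bot (e ▸ m1)) rfl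
  obtain ⟨g2, a2, b2⟩ := ih _ (hn ▸ index_strictAnti m2) hT (S' := cj g S') ⟨hcj g hg _ hS'.1, fun U hU hle =>
    le_cj_iff.2 (hS'.2 (hcj _ (inv_mem hg) U hU) (cj_le_iff.1 hle))⟩ (fun e => not_lt_bot (e ▸ m2)) rfl
  exact ⟨g1 * (g2 * g), mul_mem a1 (mul_mem a2 hg), by rw [cj_mul, cj_mul, b2, b1]⟩

section cop
variable (hp : p.Prime) (hq : q.Prime) (hne : q ≠ p) {x : G} (px : Pe p x) {T : Subgroup G}
  (hT : IsPGroup q T) (hx : x ∈ 𝐍(T))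
include hp hq hne px hT hx

theorem idem : ⁅⁅T, zpowers x⁆, zpowers x⁆ = ⁅T, zpowers x⁆ :=
  H2.commutator_commutator_eq (zpowers_le.2 hx) (cop_card hp hq hne px.zp hT)

theorem dec : ⁅T, zpowers x⁆ ⊔ (T ⊓ 𝐂[x]) = T := by
  rw [← c_zp]
  exact H2.commutator_sup_centralizer (zpowers_le.2 hx) (cop_card hp hq hne px.zp hT)
    (Or.inl (H2.isSolvable_zpowers x))

theorem hyp {A M : Subgroup G} (hA : IsMulCommutative A) (pA : IsPGroup p A) (hAT : A ≤ 𝐍(T))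
    (hAx : A ≤ 𝐂[x]) (h : ∀ B ≤ A, (∃ a ∈ A, B ⊔ zpowers a = A) → ⁅T ⊓ 𝐂(B), zpowers x⁆ ≤ M) :
    ⁅T, zpowers x⁆ ≤ M := by
  haveI := Fact.mk hq
  have hle := comm_le_self hx
  have hV := hT.to_le hle
  refine (H2.eq_of_sup_frattini (H := ⁅T, zpowers x⁆ ⊓ M) inf_le_left ?_).ge.trans inf_le_right
  refine H2.le_of_forall_cocyclic hA (fun a ha => n_comm (hAT ha) (c_nzp (hAx ha))) (cop_card hp hq hne pA hV)
    fun B hB hc => ?_
  have xB : x ∈ 𝐍(𝐂(B)) := le_normalizer fun b hb => hAx (hB hb) x rfl |>.symm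
  rw [← dec hp hq hne px (hV.to_le inf_le_left) (n_inf (x_comm T x) xB), sup_comm]
  refine sup_le_sup ?_ (le_inf ((commutator_mono inf_le_left le_rfl).trans (idem hp hq hne px hT hx).le)
    ((commutator_mono (inf_le_inf_right _ hle) le_rfl).trans (h B hB hc)))
  refine le_trans ?_ (H5.commutator_le_map_frattini hV)
  refine le_trans ?_ (H2.inf_centralizer_le_commutator (A := zpowers x) (zpowers_le.2 (x_comm T x))
    (cop_card hp hq hne px.zp hV) (idem hp hq hne px hT hx).ge)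
  rw [c_zp]; exact inf_le_inf_right _ inf_le_left

end cop

namespace Cx
variable {x : G} (h : Cx p x)
include h

theorem xp : x ^ p = 1 := h.ho ▸ pow_orderOf_eq_one x

theorem pe : Pe p x := ⟨1, by rw [pow_one, h.xp]⟩

theorem x1 : x ≠ 1 := fun e => h.hp.one_lt.ne (by rw [← h.ho, e, orderOf_one])

theorem conj (g : G) : Cx p (g * x * g⁻¹) := by
  have c : IsConj x (g * x * g⁻¹) := isConj_iff.2 ⟨g, rfl⟩
  refine ⟨h.hp, by rw [← h.ho]; exact (MulAut.conj g).orderOf_eq x, h.hO, fun H hH q hq hne u hu =>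
    h.hA H hH q hq hne u (Subgroup.closure_mono (fun d hd => by exact ⟨c.trans hd.1, hd.2⟩) hu), fun y => ?_,
    fun M hM => h.hN M fun a => by simpa [mul_assoc] using hM (a * g⁻¹)⟩
  obtain ⟨H, a1, a2, a3⟩ := h.h1 (g⁻¹ * y * g)
  exact ⟨cj g H, fun e => a1 (cj_injective g (e.trans (cj_top g).symm)), conj_mem_cj.2 a2, mem_cj.2 a3⟩

theorem of_conj {d : G} (hd : IsConj x d) : Cx p d := by
  obtain ⟨g, rfl⟩ := isConj_iff.1 hd; exact h.conj g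

theorem cne {a : G} (ha : a ≠ 1) : 𝐂[a] ≠ ⊤ := fun e => by
  obtain ⟨z, hz, ho⟩ := H2.exists_mem_prime_orderOf (zpowers_ne_bot.2 ha)
  refine h.hO _ ho (zpowers z) (Pe.zp ⟨1, by rw [pow_one, pow_orderOf_eq_one]⟩)
    (zpowers_ne_bot.2 fun e => by simp [e, Nat.not_prime_one] at ho) (top_le_iff.1 fun g _ => c_nzp ?_)
  have : g ∈ 𝐂(zpowers a) := by rw [c_zp, e]; trivial
  exact cm1.2 (this z hz).symm

theorem a {H Q : Subgroup G} (hH : H ≠ ⊤) (hq : q.Prime) (hne : q ≠ p) {d : G} (hd : IsConj x d)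
    (hdH : d ∈ H) (hQ : IsPGroup q Q) (hle : Q ≤ H) (hn : d ∈ 𝐍(Q)) : ⁅Q, zpowers d⁆ ≤ pCoreOf q H :=
  comm_le (n_core hdH) fun t ht => h.hA H hH q hq hne _
    (cr (n_DD (le_normalizer (hle ht))) (subset_closure ⟨hd, hdH⟩)) (pe_of_mem hQ (cl ht hn))

theorem ax {H Q : Subgroup G} (hH : H ≠ ⊤) (hq : q.Prime) (hne : q ≠ p) (hxH : x ∈ H)
    (hQ : IsPGroup q Q) (hle : Q ≤ H) (hn : x ∈ 𝐍(Q)) : ⁅Q, zpowers x⁆ ≤ ⁅pCoreOf q H, zpowers x⁆ := by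
  rw [← idem h.hp hq hne h.pe hQ hn]
  exact commutator_mono (h.a hH hq hne (IsConj.refl x) hxH hQ hle hn) le_rfl

theorem A1 {H : Subgroup G} (hH : H ≠ ⊤) (hq : q.Prime) (hne : q ≠ p) {t : G} (hxH : x ∈ H)
    (ht : t * x * t⁻¹ ∈ H) (pt : Pe q ⁅t, x⁆) : ⁅t, x⁆ ∈ ⁅pCoreOf q H, zpowers x⁆ := by
  have hw : ⁅t, x⁆ ∈ pCoreOf q H := h.hA H hH q hq hne _ (mul_mem
    (subset_closure ⟨isConj_iff.2 ⟨t, rfl⟩, ht⟩) (inv_mem (subset_closure ⟨IsConj.refl x, hxH⟩))) pt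
  have := pow_mod (x_comm _ x) (normalizer_commutator_ge_left _ _ hw) (mem_comm x hw) p
  rw [commutatorElement_def, inv_mul_cancel_right, conj_pow, h.xp, ← commutatorElement_def] at this
  exact pt.mem h.hp hq hne (k := 1) (by simpa [commutatorElement_def] using this)

theorem F1 {d k c : G} (hd : IsConj x d) (hk : k ∈ closure {x, d}) (e : k * d * k⁻¹ ∈ zpowers x)
    (hc : c ∈ 𝐂[x]) : ∃ H : Subgroup G, H ≠ ⊤ ∧ x ∈ H ∧ d ∈ H ∧ c ∈ H := by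
  obtain ⟨H, a1, a2, a3⟩ := h.h1 (k⁻¹ * c)
  have h1 : c * (k * d * k⁻¹) * c⁻¹ = k * d * k⁻¹ := by
    rw [← (c_zp x ▸ hc : c ∈ 𝐂(zpowers x)) _ e, mul_inv_cancel_right]
  have hdH : d ∈ H := by
    have : d = k⁻¹ * c * (k * d * k⁻¹) * (k⁻¹ * c)⁻¹ := by
      rw [show k⁻¹ * c * (k * d * k⁻¹) * (k⁻¹ * c)⁻¹ = k⁻¹ * (c * (k * d * k⁻¹) * c⁻¹) * k by group, h1]; group
    rw [this]; exact mul_mem (mul_mem a3 (zpowers_le.2 a2 e)) (inv_mem a3)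
  have hkH : k ∈ H := (closure_le H).2 (by rintro _ (rfl | rfl) <;> assumption) hk
  exact ⟨H, a1, a2, hdH, by simpa using mul_mem hkH a3⟩

theorem Sy {d : G} (hd : IsConj x d) : ∃ k ∈ closure {x, d}, ∃ P : Subgroup G, IsPGroup p P ∧
    P ≤ closure {x, d} ∧ x ∈ P ∧ k * d * k⁻¹ ∈ P := by
  haveI := Fact.mk h.hp
  obtain ⟨P, hP, hxP⟩ := exists_sylowIn_ge h.pe.zp (zpowers_le.2 (subset_closure (by simp) : x ∈ closure {x, d}))
  obtain ⟨k, hk, e⟩ := hP.exists_cj_le (h.of_conj hd).pe.zp (zpowers_le.2 (subset_closure (by simp)))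
  exact ⟨k, hk, P, hP.isPGroup, hP.le, hxP (mem_zpowers x), cj_le_iff'.1 e d (mem_zpowers d)⟩

theorem B (hq : q.Prime) (hne : q ≠ p) {T : Subgroup G} (hT : IsPGroup q T) (hx : x ∈ 𝐍(T)) {t c : G}
    (ht : t ∈ T) (hc : c ∈ 𝐂[x]) : ∃ H : Subgroup G, H ≠ ⊤ ∧ x ∈ H ∧ t * x * t⁻¹ ∈ H ∧ c ∈ H := by
  have hd : IsConj x (t * x * t⁻¹) := isConj_iff.2 ⟨t, rfl⟩
  obtain ⟨k, hk, P, hP, hle, hxP, e⟩ := h.Sy hd
  refine h.F1 hd hk ?_ hc
  have h1 : closure {x, t * x * t⁻¹} ≤ T ⊔ zpowers x := (closure_le _).2 (by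
    rintro _ (rfl | rfl)
    · exact mem_sup_right (mem_zpowers _)
    · exact mul_mem (mul_mem (mem_sup_left ht) (mem_sup_right (mem_zpowers _))) (mem_sup_left (inv_mem ht)))
  obtain ⟨s, hs, i, e'⟩ := (H5.mem_sup_zpowers_iff hx).1 (h1 (hle e))
  have : s = 1 := (pe_of_mem hT hs).eq_one h.hp hq hne
    (pe_of_mem hP ((mul_mem_cancel_right (zpow_mem hxP i)).1 (e' ▸ e)))
  rw [e', this, one_mul]; exact zpow_mem (mem_zpowers x) i

theorem GEN {M : Subgroup G} (hxM : x ∈ M) (hM : ∀ q : ℕ, q.Prime → q ≠ p → ∀ T : Subgroup G,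
    IsPGroup q T → x ∈ 𝐍(T) → ⁅T, zpowers x⁆ ≤ M) : M = ⊤ := by
  haveI := Fact.mk h.hp
  obtain ⟨H0, b1, b2, -⟩ := h.h1 x
  rcases Cfsg.Agent.S3947.result (zpowers x) (h.hN _ fun g => normalClosure_normal.conj_mem _
    (subset_normalClosure (mem_zpowers x)) g) (fun e => b1 (top_le_iff.1 (e ▸ zpowers_le.2 b2))) with hs | hs
  swap
  · obtain ⟨M0, ⟨c1, -⟩, c2⟩ := hs
    refine absurd (top_le_iff.1 fun y _ => ?_) c1.1
    obtain ⟨H, a1, a2, a3⟩ := h.h1 y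
    obtain ⟨M', d1, d2⟩ := (eq_top_or_exists_le_coatom H).resolve_left a1
    exact c2 M' ⟨d1, zpowers_le.2 (d2 a2)⟩ ▸ d2 a3
  refine top_le_iff.1 (hs ▸ sSup_le ?_)
  rintro H ⟨a1, a2, a3⟩
  have hxH : x ∈ H := a1 (mem_zpowers x)
  have k1 : ∀ N : Subgroup H, N.Normal → (⟨x, hxH⟩ : H) ∈ N → N = ⊤ := fun N _ hN => by
    refine top_le_iff.1 (a3 ▸ normalClosure_le_normal fun a ha => ?_)
    obtain ⟨i, hi⟩ := mem_subgroupOf.1 ha
    exact (Subtype.ext hi : (⟨x, hxH⟩ : H) ^ i = a) ▸ zpow_mem hN i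
  have k2 : ∀ N : Subgroup G, x ∈ N → H ≤ 𝐍(N) → H ≤ N := fun N h1 h2 =>
    subgroupOf_eq_top.1 (k1 _ (normal_subgroupOf_of_le_normalizer h2) h1)
  have k3 := k2 (closure {d | IsConj x d ∧ d ∈ H}) (Subgroup.subset_closure (by exact ⟨IsConj.refl x, hxH⟩))
    fun g hg => n_DD (x := x) (le_normalizer hg)
  let K : Subgroup G := ⨆ r : {r : ℕ // r.Prime ∧ r ≠ p}, pCoreOf r H
  let K' : Subgroup G := ⨆ r : {r : ℕ // r.Prime ∧ r ≠ p}, ⁅pCoreOf r H, zpowers x⁆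
  have nK : H ≤ 𝐍(K) := le_normalizer_of_forall_cj_le fun g hg => by
    rw [cj_iSup]; exact iSup_mono fun r => (cj_eq_of_mem_normalizer (n_core hg)).le
  have s1 : H ≤ K ⊔ zpowers x := by
    haveI : (K.subgroupOf H).Normal := normal_subgroupOf_of_le_normalizer nK
    let π := QuotientGroup.mk' (K.subgroupOf H)
    have hP : IsPGroup p (H ⧸ K.subgroupOf H) := fun g => by
      obtain ⟨⟨l, hl⟩, rfl⟩ := QuotientGroup.mk_surjective g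
      obtain ⟨k, hk⟩ := pow_mem_of_parts (M := K) h.hp l fun r hr hne z hz pz =>
        le_iSup (fun r : {r : ℕ // r.Prime ∧ r ≠ p} => pCoreOf r H) ⟨r, hr, hne⟩
          (h.hA H a2 r hr hne z (k3 (zpowers_le.2 hl hz)) pz)
      exact ⟨k, by rw [← QuotientGroup.mk_pow, QuotientGroup.eq_one_iff]; exact hk⟩
    have e : zpowers (π ⟨x, hxH⟩) = ⊤ := by
      by_contra hne
      refine H5.normalClosure_ne_top hP hne ?_
      rw [← map_comap_eq_self_of_surjective (QuotientGroup.mk'_surjective _) (normalClosure _),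
        k1 (comap _ _) inferInstance (mem_comap.2 (subset_normalClosure (mem_zpowers _)))]
      exact map_top_of_surjective _ (QuotientGroup.mk'_surjective _)
    intro l hl
    obtain ⟨i, hi⟩ := e ▸ mem_top (π ⟨l, hl⟩)
    have : l * (x ^ i)⁻¹ ∈ K := (QuotientGroup.eq_one_iff (N := K.subgroupOf H) (⟨l, hl⟩ * (⟨x, hxH⟩ ^ i)⁻¹)).1 (by
      change π _ = 1
      rw [map_mul, map_inv, map_zpow, ← hi]; simp)
    simpa using mul_mem (mem_sup_left this) (mem_sup_right (T := zpowers x) (zpow_mem (mem_zpowers x) i))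
  refine (k2 (K' ⊔ zpowers x) (mem_sup_right (mem_zpowers x)) (s1.trans (sup_le (iSup_le fun r =>
    le_normalizer_of_forall_cj_le fun g hg => ?_) (le_sup_right.trans le_normalizer)))).trans
    (sup_le (iSup_le fun r => hM r r.2.1 r.2.2 _ (H1.isPGroup_pCoreOf H) (n_core hxH)) (zpowers_le.2 hxM))
  rw [cj_sup, cj_iSup]
  refine sup_le (le_sup_of_le_left (iSup_mono fun s => (cj_eq_of_mem_normalizer ?_).le)) (cj_le_iff'.2 fun a ha => ?_)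
  · by_cases e : s = r
    · subst e; exact normalizer_commutator_ge_left _ _ hg
    · exact c_le_n _ fun b hb => (core_comm s.2.1 r.2.1 (fun e' => e (Subtype.ext e'.symm))
        (comm_le_self (n_core hxH) hb) hg).eq
  · rw [show g * a * g⁻¹ = ⁅g, a⁆ * a by rw [commutatorElement_def]; group]
    exact mul_mem (mem_sup_left (le_iSup (fun r : {r : ℕ // r.Prime ∧ r ≠ p} => ⁅pCoreOf r H, zpowers x⁆) r
      (commutator_mem_commutator hg ha))) (mem_sup_right ha)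

end Cx

end H81.FB
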