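import Mathlib
import Cfsg.Agent.Lib.Core.CoprimeSylow
import Cfsg.Agent.Lib.Core.CoprimeAbelian
import Cfsg.Agent.Lib.Core.Fitting
import Cfsg.Agent.Lib.Core.MinNormal
import Cfsg.Agent.Lib.PGroup.Basic

/-! Flavell's `F₂` theorem, part 1: `q`-elements and `q`-closed subgroups. -/

set_option autoImplicit false
set_option linter.unusedSectionVars false

namespace H81.FB
open Subgroup H68 Cfsg
open scoped commutatorElement

local notation:max "𝐂(" A ")" => Subgroup.centralizer (SetLike.coe A)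
local notation:max "𝐍(" A ")" => Subgroup.normalizer (SetLike.coe A)

variable {G : Type*} [Group G] {G' : Type*} [Group G'] {p q : ℕ}

/-- `u` is a `q`-element. -/
def Pe (q : ℕ) (u : G) : Prop := ∃ k : ℕ, u ^ q ^ k = 1

/-- `L` is `q`-closed. -/
def Cl (q : ℕ) (L : Subgroup G) : Prop := ∀ u ∈ L, Pe q u → u ∈ pCoreOf q L

/-- `d` lies in `O_{q,q'}(H)` for all primes `q ≠ p`. -/
def Good (p : ℕ) (H : Subgroup G) (d : G) : Prop :=
  ∀ q : ℕ, q.Prime → q ≠ p → ∃ L : Subgroup G, d ∈ L ∧ L ≤ H ∧ H ≤ 𝐍(L) ∧ Cl q L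

theorem eqns_Base : True := by
  have := @Pe.eq_1.{0}; have := @Cl.eq_1.{0}; have := @Good.eq_1.{0}; trivial

theorem pe_of_mem {Q : Subgroup G} (hQ : IsPGroup q Q) {u : G} (hu : u ∈ Q) : Pe q u :=
  isPGroup_iff_forall.1 hQ u hu

theorem Pe.zp {u : G} (h : Pe q u) : IsPGroup q (zpowers u) :=
  let ⟨_, hk⟩ := h; isPGroup_zpowers hk

theorem Pe.of_zp {u z : G} (h : Pe q u) (hz : z ∈ zpowers u) : Pe q z := pe_of_mem h.zp hz

theorem Pe.map {u : G} (h : Pe q u) (f : G →* G') : Pe q (f u) :=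
  let ⟨k, hk⟩ := h; ⟨k, by rw [← map_pow, hk, map_one]⟩

theorem Pe.conj {u : G} (h : Pe q u) (g : G) : Pe q (g * u * g⁻¹) :=
  let ⟨k, hk⟩ := h; ⟨k, by rw [conj_pow, hk]; group⟩

theorem Pe.of_map {u : G} {f : G →* G'} (hf : Function.Injective f) (h : Pe q (f u)) : Pe q u :=
  let ⟨k, hk⟩ := h; ⟨k, hf (by rw [map_pow, hk, map_one])⟩

theorem pe_one : Pe q (1 : G) := ⟨0, one_pow _⟩

theorem Pe.cop {u : G} (h : Pe q u) {n : ℕ} (hn : n.Coprime q) : n.Coprime (orderOf u) :=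
  let ⟨k, hk⟩ := h
  Nat.Coprime.coprime_dvd_right (orderOf_dvd_of_pow_eq_one hk) (hn.pow_right k)

theorem mem_of_pow {M : Subgroup G} {u : G} {n : ℕ} (hn : n.Coprime (orderOf u)) (h : u ^ n ∈ M) :
    u ∈ M :=
  (zpowers_le.2 h) (mem_zpowers_pow_iff.2 hn)

theorem Pe.mem {M : Subgroup G} {u : G} (h : Pe q u) (hp : p.Prime) (hq : q.Prime) (hne : q ≠ p)
    {k : ℕ} (hk : u ^ p ^ k ∈ M) : u ∈ M :=
  mem_of_pow (h.cop (((Nat.coprime_primes hp hq).2 hne.symm).pow_left k)) hk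

theorem Pe.eq_one {u : G} (h : Pe q u) (hp : p.Prime) (hq : q.Prime) (hne : q ≠ p) (h' : Pe p u) :
    u = 1 :=
  let ⟨k, hk⟩ := h'; mem_bot.1 (h.mem hp hq hne (k := k) (mem_bot.2 hk))

theorem cm_zp {u a b : G} (ha : a ∈ zpowers u) (hb : b ∈ zpowers u) : Commute a b := by
  obtain ⟨i, rfl⟩ := ha; obtain ⟨j, rfl⟩ := hb; exact Commute.zpow_zpow_self u i j

theorem nrm_of {K N : Subgroup G} (h : ∀ g ∈ K, ∀ x ∈ N, g * x * g⁻¹ ∈ N) : K ≤ 𝐍(N) :=
  le_normalizer_of_forall_cj_le fun g hg => cj_le_iff'.2 (h g hg)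

theorem cjm {N : Subgroup G} {g y : G} (h : g ∈ 𝐍(N)) (hy : y ∈ N) : g * y * g⁻¹ ∈ N :=
  conj_mem_of_mem_normalizer h hy

theorem cl {N : Subgroup G} {x y : G} (hx : x ∈ N) (hy : y ∈ 𝐍(N)) : ⁅x, y⁆ ∈ N := by
  rw [commutatorElement_def, mul_assoc, mul_assoc, ← mul_assoc y]
  exact N.mul_mem hx (cjm hy (N.inv_mem hx))

theorem cr {N : Subgroup G} {x y : G} (hx : x ∈ 𝐍(N)) (hy : y ∈ N) : ⁅x, y⁆ ∈ N :=
  N.mul_mem (cjm hx hy) (N.inv_mem hy)

theorem c_le_n (H : Subgroup G) : 𝐂(H) ≤ 𝐍(H) := centralizer_le_normalizer _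

variable [Finite G]

theorem split (hq : q.Prime) (u : G) : ∃ a ∈ zpowers u, ∃ b ∈ zpowers u, u = a * b ∧ Pe q a ∧
    (orderOf b).Coprime q := by
  obtain ⟨k, m, hm, e⟩ := Nat.exists_eq_pow_mul_and_not_dvd (orderOf_pos u).ne' q hq.ne_one
  have hc : (q ^ k).Coprime m := ((Nat.Prime.coprime_iff_not_dvd hq).2 hm).pow_left k
  obtain ⟨s, t, hst⟩ := Nat.isCoprime_iff_coprime.2 hc
  have h1 : u ^ (q ^ k * m) = 1 := e ▸ pow_orderOf_eq_one u
  refine ⟨(u ^ m) ^ t, zpow_mem (pow_mem (mem_zpowers u) _) _, (u ^ q ^ k) ^ s,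
    zpow_mem (pow_mem (mem_zpowers u) _) _, ?_, ⟨k, ?_⟩, ?_⟩
  · rw [← zpow_natCast, ← zpow_natCast, ← zpow_mul, ← zpow_mul, ← zpow_add, add_comm, mul_comm _ s,
      mul_comm _ t, hst, zpow_one]
  · rw [← zpow_natCast, ← zpow_mul, mul_comm, zpow_mul, zpow_natCast, ← pow_mul, mul_comm, h1, one_zpow]
  · refine Nat.Coprime.coprime_dvd_left (orderOf_dvd_of_pow_eq_one (n := m) ?_)
      ((Nat.Prime.coprime_iff_not_dvd hq).2 hm).symm
    rw [← zpow_natCast, ← zpow_mul, mul_comm, zpow_mul, zpow_natCast, ← pow_mul, h1, one_zpow]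

theorem mem_of_parts {M : Subgroup G} (u : G)
    (h : ∀ r : ℕ, r.Prime → r ∣ orderOf u → ∀ z ∈ zpowers u, Pe r z → z ∈ M) : u ∈ M := by
  induction' hn : orderOf u using Nat.strong_induction_on with n ih generalizing u
  by_cases h1 : orderOf u = 1
  · rw [orderOf_eq_one_iff.1 h1]; exact M.one_mem
  obtain ⟨r, hr, hd⟩ := Nat.exists_prime_and_dvd h1
  obtain ⟨a, ha, b, hb, e, pa, cb⟩ := split hr u
  have hbu : orderOf b ∣ orderOf u := orderOf_dvd_of_mem_zpowers hb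
  have hlt : orderOf b < n := hn ▸ lt_of_le_of_ne (Nat.le_of_dvd (orderOf_pos u) hbu) fun e' =>
    (Nat.Prime.coprime_iff_not_dvd hr).1 cb.symm (e' ▸ hd)
  rw [e]
  exact M.mul_mem (h r hr hd a ha pa) (ih _ hlt b
    (fun s hs hsd z hz => h s hs (hsd.trans hbu) z (zpowers_le.2 hb hz)) rfl)

theorem mem_of_cop {M : Subgroup G} {u : G} (hp : p.Prime) (hu : (orderOf u).Coprime p)
    (h : ∀ r : ℕ, r.Prime → r ≠ p → ∀ z ∈ zpowers u, Pe r z → z ∈ M) : u ∈ M :=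
  mem_of_parts u fun r hr hd => h r hr (by
    rintro rfl; exact (Nat.Prime.coprime_iff_not_dvd hr).1 hu.symm hd)

theorem pow_mem_of_parts {M : Subgroup G} (hp : p.Prime) (u : G)
    (h : ∀ r : ℕ, r.Prime → r ≠ p → ∀ z ∈ zpowers u, Pe r z → z ∈ M) : ∃ k : ℕ, u ^ p ^ k ∈ M := by
  obtain ⟨a, ha, b, hb, e, ⟨k, hk⟩, cb⟩ := split hp u
  refine ⟨k, ?_⟩
  have : b ∈ M := mem_of_cop hp cb fun r hr hne z hz => h r hr hne z (zpowers_le.2 hb hz)
  rw [e, (cm_zp ha hb).mul_pow, hk, one_mul]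
  exact pow_mem this _

theorem cop_card (hp : p.Prime) (hq : q.Prime) (hne : q ≠ p) {A K : Subgroup G} (hA : IsPGroup p A)
    (hK : IsPGroup q K) : (Nat.card A).Coprime (Nat.card K) :=
  haveI := Fact.mk hp; haveI := Fact.mk hq
  IsPGroup.coprime_card_of_ne p q hne.symm A K hA hK

/-- normalising each other and coprime: commuting -/
theorem comm_of {A K : Subgroup G} (hp : p.Prime) (hq : q.Prime) (hne : q ≠ p) (hA : IsPGroup p A)
    (hK : IsPGroup q K) {a k : G} (ha : a ∈ A) (hk : k ∈ K) (h1 : a ∈ 𝐍(K)) (h2 : k ∈ 𝐍(A)) :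
    Commute a k :=
  commutatorElement_eq_one_iff_commute.1
    ((pe_of_mem hK (cr h1 hk)).eq_one hp hq hne (pe_of_mem hA (cl ha h2)))

theorem core_comm {H : Subgroup G} (hp : p.Prime) (hq : q.Prime) (hne : q ≠ p) {a k : G}
    (ha : a ∈ pCoreOf p H) (hk : k ∈ pCoreOf q H) : Commute a k :=
  comm_of hp hq hne (H1.isPGroup_pCoreOf H) (H1.isPGroup_pCoreOf H) ha hk
    (H1.le_normalizer_pCoreOf H (H1.pCoreOf_le H ha)) (H1.le_normalizer_pCoreOf H (H1.pCoreOf_le H hk))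

omit [Finite G] in
theorem cl_of {L O : Subgroup G} (hO : IsPGroup q O) (hn : L ≤ 𝐍(O)) (h : ∀ u ∈ L, Pe q u → u ∈ O) :
    Cl q L := fun u hu pu =>
  H1.le_pCoreOf (K := O ⊓ L) inf_le_right (H2.le_normalizer_inf hn le_normalizer)
    (hO.to_le inf_le_left) ⟨h u hu pu, hu⟩

omit [Finite G] in
theorem Cl.mono {L K : Subgroup G} (h : Cl q L) (hK : K ≤ L) : Cl q K :=
  cl_of (H1.isPGroup_pCoreOf L) (hK.trans (H1.le_normalizer_pCoreOf L)) fun u hu => h u (hK hu)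

omit [Finite G] in
theorem core_le {L H : Subgroup G} (h1 : L ≤ H) (h2 : H ≤ 𝐍(L)) : pCoreOf q L ≤ pCoreOf q H :=
  H1.le_pCoreOf ((H1.pCoreOf_le L).trans h1) (h2.trans (H1.normalizer_le_normalizer_pCoreOf L))
    (H1.isPGroup_pCoreOf L)

theorem Cl.map (hq : q.Prime) {L : Subgroup G} (h : Cl q L) (f : G →* G') : Cl q (L.map f) := by
  refine cl_of ((H1.isPGroup_pCoreOf (p := q) L).map f) ?_ ?_
  · exact (map_mono (H1.le_normalizer_pCoreOf L)).trans (le_normalizer_map f)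
  · rintro _ ⟨l, hl, rfl⟩ pu
    obtain ⟨a, ha, b, hb, e, pa, cb⟩ := split hq l
    have : f b = 1 := by
      have h1 : Pe q (f b) := pu.of_zp (by
        obtain ⟨i, rfl⟩ := hb; exact ⟨i, by simp⟩)
      refine mem_bot.1 (mem_of_pow (h1.cop cb) ?_)
      rw [← map_pow, pow_orderOf_eq_one, map_one]; exact one_mem _
    rw [e, map_mul, this, mul_one]
    exact mem_map_of_mem f (h a (zpowers_le.2 hl ha) pa)

omit [Finite G] in
theorem Cl.of_map {L : Subgroup G} {f : G →* G'} (hf : Function.Injective f) (h : Cl q (L.map f)) :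
    Cl q L := fun u hu pu => by
  have := h (f u) (mem_map_of_mem f hu) (pu.map f)
  rw [← H1.map_pCoreOf_of_injective hf] at this
  exact (mem_map_iff_mem hf).1 this

theorem Cl.sup (hq : q.Prime) {L K : Subgroup G} (hL : Cl q L) (hK : Cl q K) (h1 : L ≤ 𝐍(K))
    (h2 : K ≤ 𝐍(L)) : Cl q (L ⊔ K) := by
  have nL : L ⊔ K ≤ 𝐍(L) := sup_le le_normalizer h2
  have nK : L ⊔ K ≤ 𝐍(K) := sup_le h1 le_normalizer
  intro u hu pu
  have hO := H1.isPGroup_pCoreOf (p := q) (L ⊔ K)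
  obtain ⟨l, hl, k, hk, e⟩ := (mem_sup_of_le_normalizer' h2).1 hu
  obtain ⟨a, ha, b, hb, e', pa, cb⟩ := split hq k
  have haO : a ∈ pCoreOf q (L ⊔ K) := core_le le_sup_right nK (hK a (zpowers_le.2 hk ha) pa)
  have hbL : b ∈ L := by
    obtain ⟨i, hi⟩ := pu
    obtain ⟨j, hj⟩ := pa
    have hkL : ∀ n : ℕ, (l * k) ^ n * (k ^ n)⁻¹ ∈ L := by
      intro n
      induction n with
      | zero => simp
      | succ n ih =>
        have : (l * k) ^ (n + 1) * (k ^ (n + 1))⁻¹ = l * (k * ((l * k) ^ n * (k ^ n)⁻¹) * k⁻¹) := by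
          rw [pow_succ', pow_succ']; group
        rw [this]; exact L.mul_mem hl (cjm (h2 hk) ih)
    have h3 := hkL (q ^ (i + j))
    rw [← e, pow_add, pow_mul, hi, one_pow, one_mul, inv_mem_iff, e', (cm_zp ha hb).mul_pow,
      mul_comm, pow_mul, hj, one_pow, one_mul] at h3
    exact mem_of_pow ((cb.symm.pow_left j).mul_left (cb.symm.pow_left i)) h3
  have e2 : u = l * b * a := by rw [e, e', (cm_zp ha hb).eq, mul_assoc]
  have h4 : l * b ∈ zpowers u ⊔ pCoreOf q (L ⊔ K) := by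
    have : l * b = u * a⁻¹ := by rw [e2]; group
    rw [this]
    exact mul_mem (mem_sup_left (mem_zpowers u)) (mem_sup_right (inv_mem haO))
  have h5 : IsPGroup q (zpowers u ⊔ pCoreOf q (L ⊔ K) : Subgroup G) :=
    pu.zp.to_sup_of_normal_right' hO ((zpowers_le.2 hu).trans (H1.le_normalizer_pCoreOf _))
  rw [e2]
  exact mul_mem (core_le le_sup_left nL (hL _ (L.mul_mem hl hbL) (pe_of_mem h5 h4))) haO

theorem exists_W (hq : q.Prime) (H : Subgroup G) : ∃ W : Subgroup G, W ≤ H ∧ 𝐍(H) ≤ 𝐍(W) ∧ Cl q W ∧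
    ∀ L : Subgroup G, L ≤ H → H ≤ 𝐍(L) → Cl q L → L ≤ W := by
  have hS := H1.sSup_mem_of_sup_closed (S := {L : Subgroup G | L ≤ H ∧ H ≤ 𝐍(L) ∧ Cl q L})
    ⟨bot_le, nrm_of (by simp), fun u hu _ => by rw [mem_bot.1 hu]; exact one_mem _⟩
    fun A hA B hB => ⟨sup_le hA.1 hB.1, H2.le_normalizer_sup hA.2.1 hB.2.1,
      hA.2.2.sup hq hB.2.2 (hA.1.trans hB.2.1) (hB.1.trans hA.2.1)⟩
  refine ⟨_, hS.1, le_normalizer_of_forall_cj_le fun g hg => le_sSup ?_, hS.2.2,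
    fun L h1 h2 h3 => le_sSup ⟨h1, h2, h3⟩⟩
  have e := cj_eq_of_mem_normalizer hg
  refine ⟨(cj_mono g hS.1).trans e.le, ?_, hS.2.2.map hq _⟩
  rw [← cj_normalizer]; exact e.ge.trans (cj_mono g hS.2.1)

/-- if all `r`-elements, `r ≠ q`, are central then the group is `q`-closed -/
theorem cl_of_central (hq : q.Prime) {L : Subgroup G}
    (h : ∀ r : ℕ, r.Prime → r ≠ q → ∀ z ∈ L, Pe r z → z ∈ 𝐂(L)) : Cl q L := by
  haveI := Fact.mk hq
  have hn : Group.IsNilpotent L := by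
    have : IsPGroup q (L ⧸ center L) := by
      intro g
      obtain ⟨⟨l, hl⟩, rfl⟩ := QuotientGroup.mk_surjective g
      obtain ⟨k, hk⟩ := pow_mem_of_parts (M := 𝐂(L)) hq l fun r hr hne z hz =>
        h r hr hne z (zpowers_le.2 hl hz)
      refine ⟨k, ?_⟩
      rw [← QuotientGroup.mk_pow, QuotientGroup.eq_one_iff, mem_center_iff]
      intro g; exact Subtype.ext (hk g g.2)
    exact of_quotient_center_nilpotent this.isNilpotent
  intro u hu pu
  have := H1.le_pCore_of_le_fitting (P := zpowers (⟨u, hu⟩ : L))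
    (Pe.zp (Pe.of_map (f := L.subtype) L.subtype_injective pu)) (by
      rw [H1.fitting_eq_top_iff.2 hn]; exact le_top)
  exact ⟨⟨u, hu⟩, this (mem_zpowers _), rfl⟩

namespace Good
variable {H K : Subgroup G} {d : G}

omit [Finite G] in
theorem mono (h : Good p H d) (hK : K ≤ H) (hd : d ∈ K) : Good p K d := fun q hq hne =>
  let ⟨L, h1, _, h3, h4⟩ := h q hq hne
  ⟨L ⊓ K, ⟨h1, hd⟩, inf_le_right, H2.le_normalizer_inf (hK.trans h3) le_normalizer, h4.mono inf_le_left⟩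

omit [Finite G] in
theorem zp (h : Good p H d) {z : G} (hz : z ∈ zpowers d) : Good p H z := fun q hq hne =>
  let ⟨L, h1, h2⟩ := h q hq hne
  ⟨L, zpowers_le.2 h1 hz, h2⟩

theorem map (h : Good p H d) (f : G →* G') : Good p (H.map f) (f d) := fun q hq hne =>
  let ⟨L, h1, h2, h3, h4⟩ := h q hq hne
  ⟨L.map f, mem_map_of_mem f h1, map_mono h2, (map_mono h3).trans (le_normalizer_map f), h4.map hq f⟩

omit [Finite G] in
theorem of_map {f : G →* G'} (hf : Function.Injective f) (h : Good p (H.map f) (f d)) : Good p H d := by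
  intro q hq hne
  obtain ⟨L, h1, h2, h3, h4⟩ := h q hq hne
  have e : (L.comap f).map f = L := map_comap_eq_self (h2.trans (map_le_range f H))
  refine ⟨L.comap f, h1, ?_, nrm_of fun g hg x hx => ?_, Cl.of_map hf (e.symm ▸ h4)⟩
  · rw [← comap_map_eq_self_of_injective hf H]; exact comap_mono h2
  · rw [mem_comap, map_mul, map_mul, map_inv]; exact cjm (h3 (mem_map_of_mem f hg)) hx

theorem trans (h : Good p K d) (h1 : K ≤ H) (h2 : H ≤ 𝐍(K)) : Good p H d := fun q hq hne =>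
  let ⟨L, a1, a2, a3, a4⟩ := h q hq hne
  let ⟨W, b1, b2, b3, b4⟩ := exists_W hq K
  ⟨W, b4 L a2 a3 a4 a1, b1.trans h1, h2.trans b2, b3⟩

end Good

theorem core_of_good {H : Subgroup G} {S : Set G} (h : ∀ d ∈ S, Good p H d) (hq : q.Prime) (hne : q ≠ p)
    {u : G} (hu : u ∈ closure S) (pu : Pe q u) : u ∈ pCoreOf q H := by
  obtain ⟨W, b1, b2, b3, b4⟩ := exists_W hq H
  refine core_le b1 (le_normalizer.trans b2) (b3 u ((closure_le W).2 (fun d hd => ?_) hu) pu)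
  obtain ⟨L, a1, a2, a3, a4⟩ := h d hd q hq hne
  exact b4 L a2 a3 a4 a1

end H81.FB
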