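import Cfsg.Agent.Lib.FB.Two
import Cfsg.Agent.Lib.PGroup.Omega
import Cfsg.Agent.Lib.FGS.PLength
import Cfsg.Agent.S1950

/-! Flavell's `F₂` theorem, part 7: cyclic Sylow subgroups, and the end of the proof. -/

set_option autoImplicit false
set_option linter.unusedSectionVars false

namespace H81.FB
open Subgroup H68 Cfsg
open scoped commutatorElement

local notation:max "𝐂(" A ")" => Subgroup.centralizer (SetLike.coe A)
local notation:max "𝐍(" A ")" => Subgroup.normalizer (SetLike.coe A)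
local notation:max "𝐂[" x "]" => Subgroup.centralizer (Singleton.singleton x)

variable {G : Type*} [Group G] [Finite G] {p q : ℕ}

theorem relIndex_dvd {C T : Subgroup G} (h : C ≤ 𝐍(T)) : C.relIndex T ∣ C.index := by
  have h1 := H1.card_sup_mul_card_inf_of_le_normalizer h
  rw [← H1.card_inf_mul_relIndex C T, mul_left_comm, mul_comm] at h1
  have h2 := card_subgroup_dvd_card (C ⊔ T)
  rw [Nat.eq_of_mul_eq_mul_left Nat.card_pos h1, ← C.card_mul_index] at h2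
  exact Nat.dvd_of_mul_dvd_mul_left Nat.card_pos h2

namespace Cx
variable {x : G} (h : Cx p x)
include h

theorem parts {N : Subgroup G} [N.Normal] (hN : (Nat.card N).Coprime p) (ht : N ⊔ zpowers x = ⊤)
    (hq : q.Prime) (hne : q ≠ p) (g : G) : ∃ U : Subgroup G, IsPGroup q U ∧ x ∈ 𝐍(U) ∧
      ∃ v ∈ ⁅U, zpowers x⁆, ⁅g, x⁆ ^ ordCompl[q] (Nat.card G) = ⁅v, x⁆ ^ ordCompl[q] (Nat.card G) := by
  haveI := Fact.mk hq
  have dc : ∀ y : G, ∃ n ∈ N, ∃ i : ℤ, y = n * x ^ i := fun y =>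
    (H5.mem_sup_zpowers_iff (nrm_top N x)).1 (ht ▸ mem_top y)
  have one : ∀ n ∈ N, Pe p n → n = 1 := fun n hn ⟨k, hk⟩ => mem_bot.1 (mem_of_pow
    ((hN.coprime_dvd_left (H1.orderOf_dvd_card_of_mem hn)).symm.pow_left k) (mem_bot.2 hk))
  have c : IsConj x (g * x * g⁻¹) := isConj_iff.2 ⟨g, rfl⟩
  obtain ⟨k, hk, P, hP, -, d1, d2⟩ := h.Sy c
  have e1 : k * (g * x * g⁻¹) * k⁻¹ = x := by
    obtain ⟨n, hn, i, e⟩ := dc (k * g)
    have : k * (g * x * g⁻¹) * k⁻¹ * x⁻¹ = ⁅n, x⁆ := by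
      rw [show k * (g * x * g⁻¹) * k⁻¹ = k * g * x * (k * g)⁻¹ by group, e, commutatorElement_def]; group
    exact mul_inv_eq_one.1 (one _ (this ▸ cl hn (nrm_top N x)) (pe_of_mem hP (mul_mem d2 (inv_mem d1))))
  obtain ⟨H, a1, a2, a3⟩ := h.h1 (g * x * g⁻¹)
  obtain ⟨n, hn, i, e⟩ := dc k⁻¹
  have e2 : ⁅g, x⁆ = ⁅n, x⁆ := by
    have : g * x * g⁻¹ = k⁻¹ * x * k⁻¹⁻¹ := by nth_rewrite 2 [← e1]; group
    rw [commutatorElement_def, this, e, commutatorElement_def]; group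
  have nD : n ∈ closure {d | IsConj x d ∧ d ∈ H} := (mul_mem_cancel_right (zpow_mem (mem_DD (IsConj.refl x) a2) i)).1
    (e ▸ inv_mem ((closure_le _).2 (by rintro _ (rfl | rfl); exacts [mem_DD (IsConj.refl _) a2, mem_DD c a3]) hk))
  obtain ⟨a, ha, b, hb, e3, pa, cb⟩ := split hq n
  have hO := H1.isPGroup_pCoreOf (p := q) H
  have aO := h.hA H a1 q hq hne a (zpowers_le.2 nD ha) pa
  have hR : (Nat.card (piCoreOf ({q}ᶜ : Set ℕ) H)).Coprime q :=
    H1.isPiSubgroup_compl_singleton_iff.1 (H1.isPiSubgroup_piCoreOf H)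
  have bR : b ∈ piCoreOf ({q}ᶜ : Set ℕ) H := mem_of_parts b fun r hr hd z hz pz => by
    haveI := Fact.mk hr
    have rq : r ≠ q := by rintro rfl; exact (Nat.Prime.coprime_iff_not_dvd hr).1 cb.symm hd
    have rp : r ≠ p := by
      rintro rfl
      exact (Nat.Prime.coprime_iff_not_dvd hr).1 hN.symm
        (hd.trans (H1.orderOf_dvd_card_of_mem (zpowers_le.2 hn hb)))
    exact H1.le_piCoreOf (H1.pCoreOf_le H) (H1.le_normalizer_pCoreOf H) (H1.isPiSubgroup_mono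
      (H1.isPiSubgroup_singleton_iff.2 (H1.isPGroup_pCoreOf H)) (by simpa using rq.symm))
      (h.hA H a1 r hr rp z (zpowers_le.2 nD (zpowers_le.2 hb hz)) pz)
  have wR := cl bR (H1.le_normalizer_piCoreOf H a2)
  have cm : ∀ y ∈ pCoreOf q H, Commute ⁅b, x⁆ y := fun y hy => commutatorElement_eq_one_iff_commute.1
    (H2.eq_one_of_mem_of_coprime (H2.coprime_card_of_isPGroup hR hO)
      (cl wR (H1.le_normalizer_piCoreOf H (H1.pCoreOf_le H hy))) (cr (n_core (H1.piCoreOf_le H wR)) hy))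
  have w1 : ⁅b, x⁆ ^ ordCompl[q] (Nat.card G) = 1 := by
    refine orderOf_dvd_iff_pow_eq_one.1 (Nat.Coprime.dvd_of_dvd_mul_left
      ((hR.coprime_dvd_left (H1.orderOf_dvd_card_of_mem wR)).pow_right ((Nat.card G).factorization q)) ?_)
    rw [Nat.ordProj_mul_ordCompl_eq_self]; exact orderOf_dvd_natCard _
  obtain ⟨v, hv, c, hc, e4⟩ := H2.exists_commutator_mul_centralizer (zpowers_le.2 (n_core a2))
    (cop_card h.hp hq hne h.pe.zp hO) (Or.inl (H2.isSolvable_zpowers x)) aO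
  refine ⟨_, hO, n_core a2, v, hv, ?_⟩
  have e5 : ⁅a, x⁆ = ⁅v, x⁆ := by
    rw [e4, commutatorElement_def, commutatorElement_def, mul_assoc v, ← hc.2 x (mem_zpowers x)]; group
  rw [e2, e3, show ⁅a * b, x⁆ = a * ⁅b, x⁆ * a⁻¹ * ⁅a, x⁆ by simp only [commutatorElement_def]; group,
    ← (cm a aO).eq, mul_inv_cancel_right, (cm _ (cl aO (n_core a2))).mul_pow, w1, one_mul, e5]

variable (h2 : p ≠ 2)
include h2

theorem uniq {N : Subgroup G} [N.Normal] (hN : (Nat.card N).Coprime p) (ht : N ⊔ zpowers x = ⊤)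
    (hq : q.Prime) (hne : q ≠ p) : ∃ T : Subgroup G, IsPGroup q T ∧ 𝐂[x] ≤ 𝐍(T) ∧
      ∀ U : Subgroup G, IsPGroup q U → x ∈ 𝐍(U) → ⁅U, zpowers x⁆ ≤ T := by
  haveI := Fact.mk hq
  by_cases h0 : ∀ U : Subgroup G, IsPGroup q U → x ∈ 𝐍(U) → ⁅U, zpowers x⁆ = ⊥
  · exact ⟨⊥, IsPGroup.of_bot, fun g _ => nrm_top _ g, fun U a b => (h0 U a b).le⟩
  push Not at h0
  obtain ⟨U0, a1, a2, a3⟩ := h0
  have cop : (Nat.card (zpowers x)).Coprime (Nat.card N) := by rw [Nat.card_zpowers, h.ho]; exact hN.symm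
  have inN : ∀ U : Subgroup G, IsPGroup q U → U ≤ N := fun U hU u hu => by
    obtain ⟨n, hn, i, e⟩ := (H5.mem_sup_zpowers_iff (nrm_top N x)).1 (ht ▸ mem_top u)
    refine (pe_of_mem hU hu).mem h.hp hq hne (k := 1) ((QuotientGroup.eq_one_iff _).1 ?_)
    rw [e, pow_one, QuotientGroup.mk_pow, QuotientGroup.mk_mul, (QuotientGroup.eq_one_iff n).2 hn, one_mul,
      ← QuotientGroup.mk_pow, zp_pow h.xp (zpow_mem (mem_zpowers x) i), QuotientGroup.mk_one]
  obtain ⟨P, p1, p2, p3⟩ := H2.exists_invariant_sylowIn_ge (fun a _ => nrm_top N a) cop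
    (Or.inl (H2.isSolvable_zpowers x)) (inN U0 a1) a1 (zpowers_le.2 a2)
  have xP := p3 (mem_zpowers x)
  obtain ⟨S, b1, b2⟩ := Finite.exists_le_maximal (p := (· ∈ Fam q x)) (h.fam h2 hq hne p1.isPGroup xP)
  have CS := h.R4 h2 hq hne b2 fun e => a3 (le_bot_iff.1 (e ▸ ((commutator_mono p2 le_rfl).trans
    (idem h.hp hq hne h.pe p1.isPGroup xP).ge).trans (commutator_mono b1 le_rfl)))
  refine ⟨S, b2.1.1, CS, fun U hU hx => ?_⟩
  obtain ⟨P', q1, q2, q3⟩ := H2.exists_invariant_sylowIn_ge (fun a _ => nrm_top N a) cop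
    (Or.inl (H2.isSolvable_zpowers x)) (inN U hU) hU (zpowers_le.2 hx)
  obtain ⟨c, hc, e⟩ := H2.exists_centralizer_cj_eq_of_sylowIn (fun a _ => nrm_top N a) cop
    (Or.inl (H2.isSolvable_zpowers x)) p1 q1 p3 q3
  refine (commutator_mono q2 le_rfl).trans ?_
  rw [← e, ← cj_eq_of_mem_normalizer (c_le_n _ hc.2), ← cj_commutator,
    ← cj_eq_of_mem_normalizer (CS (c_zp x ▸ hc.2))]
  exact cj_mono c b1

theorem coprime {N : Subgroup G} [N.Normal] (hN : (Nat.card N).Coprime p) (ht : N ⊔ zpowers x = ⊤) : False := by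
  classical
  let ι := {q : ℕ // q ∈ (Nat.card G).primeFactors.erase p}
  have hι : ∀ q : ι, q.1.Prime ∧ q.1 ≠ p := fun q =>
    ⟨Nat.prime_of_mem_primeFactors (Finset.mem_of_mem_erase q.2), Finset.ne_of_mem_erase q.2⟩
  choose T T1 T2 T3 using fun q : ι => h.uniq h2 hN ht (hι q).1 (hι q).2
  have : ∀ (g : G ⧸ 𝐂[x]) (q : ι), ∃ t : T q ⧸ 𝐂[x].subgroupOf (T q), ∀ v : T q, t = v →
      ⁅g.out, x⁆ ^ ordCompl[q.1] (Nat.card G) = ⁅(v : G), x⁆ ^ ordCompl[q.1] (Nat.card G) := fun g q => by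
    obtain ⟨U, a1, a2, v, hv, e⟩ := h.parts hN ht (hι q).1 (hι q).2 g.out
    refine ⟨(⟨v, T3 q U a1 a2 hv⟩ : T q), fun w hw => ?_⟩
    have : v⁻¹ * w ∈ 𝐂[x] := mem_subgroupOf.1 (QuotientGroup.eq.1 hw)
    rw [e, show (w : G) = v * (v⁻¹ * w) by group, commutatorElement_def (v * _), mul_assoc v, cm1.1 this,
      commutatorElement_def]
    congr 1; group
  choose Φ hΦ using this
  have kN : ∀ g : G, ⁅g, x⁆ ∈ N := fun g => by
    obtain ⟨n, hn, i, rfl⟩ := (H5.mem_sup_zpowers_iff (nrm_top N x)).1 (ht ▸ mem_top g)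
    rw [show ⁅n * x ^ i, x⁆ = ⁅n, x⁆ by simp only [commutatorElement_def]; group]
    exact cl hn (nrm_top N x)
  have inj : Function.Injective Φ := fun g g' e => by
    have : (⁅g.out, x⁆, ⁅g'.out, x⁆) ∈ (MonoidHom.fst G G).eqLocus (MonoidHom.snd G G) := by
      refine mem_of_cop h.hp (hN.coprime_dvd_left (orderOf_dvd_of_pow_eq_one (Prod.ext ?_ ?_)))
        fun r hr hne z hz pz => ?_
      · exact orderOf_dvd_iff_pow_eq_one.1 (H1.orderOf_dvd_card_of_mem (kN _))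
      · exact orderOf_dvd_iff_pow_eq_one.1 (H1.orderOf_dvd_card_of_mem (kN _))
      refine mem_of_pow (pz.cop (Nat.coprime_ordCompl hr (Nat.card_pos (α := G)).ne').symm) ?_
      obtain ⟨i, rfl⟩ := hz
      rw [← zpow_natCast, ← zpow_mul, mul_comm, zpow_mul, zpow_natCast]
      refine zpow_mem ?_ i
      change ⁅g.out, x⁆ ^ _ = ⁅g'.out, x⁆ ^ _
      by_cases hd : r ∣ Nat.card G
      · let q : ι := ⟨r, Finset.mem_erase.2 ⟨hne, Nat.mem_primeFactors.2 ⟨hr, hd, Nat.card_pos.ne'⟩⟩⟩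
        obtain ⟨v, hv⟩ := QuotientGroup.mk_surjective (Φ g q)
        exact (hΦ g q v hv.symm).trans (hΦ g' q v (e ▸ hv.symm)).symm
      · simp [Nat.factorization_eq_zero_of_not_dvd hd]
    have e' : ⁅g.out, x⁆ = ⁅g'.out, x⁆ := this
    rw [← g.out_eq, ← g'.out_eq]
    refine QuotientGroup.eq.2 (cm1.2 ?_)
    rw [commutatorElement_def, commutatorElement_def, mul_left_inj] at e'
    calc _ = g.out⁻¹ * (g'.out * x * g'.out⁻¹) * g'.out := by group
      _ = _ := by rw [← e']; group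
  have bij : Function.Bijective Φ := inj.bijective_of_nat_card_le (by
    rw [Nat.card_pi]
    refine Nat.le_of_dvd Nat.card_pos (Fintype.prod_dvd_of_isRelPrime (fun q r hqr => ?_)
      fun q => relIndex_dvd (T2 q))
    refine Nat.coprime_iff_isRelPrime.1 (((cop_card (hι q).1 (hι r).1 (fun e => hqr (Subtype.ext e.symm))
      (T1 q) (T1 r)).coprime_dvd_left (index_dvd_card _)).coprime_dvd_right (index_dvd_card _)))
  have xT : ∀ q, x ∈ 𝐍(T q) := fun q => T2 q (cm1.2 rfl)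
  refine h.FIN0 (Set.range fun q : ι => (q.1, T q)) (by rintro _ ⟨q, rfl⟩; exact (hι q).1)
    (fun M hxM hM => h.GEN hxM fun r hr hne U hU hx => ?_) ?_ ?_
  · haveI := Fact.mk hr
    by_cases hd : r ∣ Nat.card G
    · let q : ι := ⟨r, Finset.mem_erase.2 ⟨hne, Nat.mem_primeFactors.2 ⟨hr, hd, Nat.card_pos.ne'⟩⟩⟩
      have k : ⁅T q, zpowers x⁆ ≤ M := hM (q.1, T q) ⟨q, rfl⟩
      exact ((idem h.hp hr hne h.pe hU hx).ge.trans (commutator_mono (T3 q U hU hx) le_rfl)).trans k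
    · rw [eq_bot_of_isPGroup_of_not_dvd hU le_top (by rwa [card_top])]; simp
  · rintro _ ⟨q, rfl⟩ _ ⟨r, rfl⟩ hqr
    have hqr' : q ≠ r := fun e => hqr (congrArg Subtype.val e)
    refine h.pair (hι q).1 (hι q).2 (hι r).1 (hι r).2 hqr (T1 q) (xT q) (T1 r) (xT r) fun t ht u hu => ?_
    obtain ⟨g, hg⟩ := bij.2 (Function.update (Function.update (fun s => ((1 : T s) : T s ⧸ 𝐂[x].subgroupOf (T s)))
      q (⟨t, ht⟩ : T q)) r (⟨u, hu⟩ : T r))
    obtain ⟨H, a1, a2, a3⟩ := h.h1 (g.out * x * g.out⁻¹)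
    have k : ∀ (s : ι) (v : T s), Φ g s = v → (v : G) * x * (v : G)⁻¹ ∈ H := fun s v e => by
      have := mem_of_pow ((pe_of_mem (T1 s) (cl v.2 (xT s))).cop
        (Nat.coprime_ordCompl (hι s).1 (Nat.card_pos (α := G)).ne').symm)
        (hΦ g s v e ▸ pow_mem (mul_mem a3 (inv_mem a2)) _)
      exact (mul_mem_cancel_right (inv_mem a2)).1 this
    exact ⟨H, a1, a2, k q ⟨t, ht⟩ (by rw [hg, Function.update_of_ne hqr', Function.update_self]),
      k r ⟨u, hu⟩ (by rw [hg, Function.update_self])⟩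
  · rintro _ ⟨q, rfl⟩ -
    refine ⟨T q, T1 q, ?_⟩
    rintro _ ⟨r, rfl⟩ e
    obtain rfl : r = q := Subtype.ext e
    exact comm_le_self (xT r)

theorem cyc (no : ∀ b ∈ 𝐂[x], b ^ p = 1 → b ∈ zpowers x) : False := by
  haveI := Fact.mk h.hp
  obtain ⟨P, hP⟩ := h.pe.zp.exists_le_sylow
  have xP := hP (mem_zpowers x)
  have PC : (P : Subgroup G) ≤ 𝐂[x] := by
    obtain ⟨z, -, z1, z2⟩ := H5.exists_mem_centralizer_orderOf_eq P.isPGroup' le_rfl le_normalizer
      (ne_bot_of xP h.x1)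
    rw [← (c_eq h.hp h.xp (no z (cm1.2 (z1 x xP).symm) (z2 ▸ pow_orderOf_eq_one z)) (by
      rintro rfl; exact h.hp.one_lt.ne (by simpa using z2))).2]
    exact fun y hy => cm1.2 (z1 y hy)
  have hc : IsCyclic P := by
    by_contra hc
    obtain ⟨A, -, a1, a2⟩ := H5.exists_normal_elementary_sq h2 P.isPGroup' hc
    have : A.map (P : Subgroup G).subtype ≤ zpowers x := by
      rintro _ ⟨a, ha, rfl⟩
      exact no _ (PC a.2) (congrArg Subtype.val (a1.2 a ha))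
    have := card_le_of_le this
    rw [card_map_of_injective (P : Subgroup G).subtype_injective, a2, Nat.card_zpowers, h.ho] at this
    nlinarith [h.hp.two_le]
  have zd : ∀ y : G, orderOf y = p → ∃ d, IsConj x d ∧ y ∈ zpowers d := fun y hy => by
    have yp : y ^ p = 1 := hy ▸ pow_orderOf_eq_one y
    obtain ⟨g, -, e⟩ := (sylowIn_top P).exists_cj_le (Pe.zp (u := y) ⟨1, by rw [pow_one, yp]⟩) le_top
    obtain ⟨i, hi⟩ := no _ (PC (cj_le_iff'.1 e y (mem_zpowers y))) (by rw [conj_pow, yp]; simp)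
    exact ⟨g⁻¹ * x * g⁻¹⁻¹, isConj_iff.2 ⟨_, rfl⟩, i, by simp only [conj_zpow] at hi ⊢; rw [hi]; group⟩
  have hs : IsPSolvable p G := (Cfsg.Agent.S1950.result P hc).2 fun y y' hy hy' => by
    obtain ⟨d, c1, m1⟩ := zd y hy
    obtain ⟨d', c2, m2⟩ := zd y' hy'
    obtain ⟨H, a1, a2, a3⟩ := (h.of_conj c1).h1 d'
    set L := closure {d | IsConj x d ∧ d ∈ H}
    have LH : L ≤ H := (closure_le H).2 fun d hd => hd.2
    haveI : ((fittingOf H).subgroupOf L).Normal :=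
      normal_subgroupOf_of_le_normalizer (LH.trans (H1.le_normalizer_fittingOf H))
    have : Group.IsSolvable L := by
      refine H1.isSolvable_of_normal_of_quotient ((fittingOf H).subgroupOf L) ?_
        (H1.isSolvable_of_isPGroup (p := p) fun g => ?_)
      · haveI := H1.isNilpotent_subgroupOf (H1.isNilpotent_fittingOf H) L
        infer_instance
      obtain ⟨⟨l, hl⟩, rfl⟩ := QuotientGroup.mk_surjective g
      obtain ⟨k, hk⟩ := pow_mem_of_parts (M := fittingOf H) h.hp l fun r hr hne z hz pz =>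
        haveI := Fact.mk hr
        H1.pCoreOf_le_fittingOf r H (h.hA H a1 r hr hne z (zpowers_le.2 hl hz) pz)
      exact ⟨k, by rw [← QuotientGroup.mk_pow, QuotientGroup.eq_one_iff]; exact hk⟩
    haveI := H1.isSolvable_of_le (H := closure {y, y'}) this ((closure_le L).2 (by
      rintro _ (rfl | rfl)
      exacts [zpowers_le.2 (mem_DD c1 a2) m1, zpowers_le.2 (mem_DD c2 a3) m2]))
    exact H76.isPSolvable_of_isSolvable
  haveI : Nontrivial G := ⟨⟨x, 1, h.x1⟩⟩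
  obtain ⟨N, hN, hb, h1 | h1⟩ := (H76.isPSolvable_iff.1 hs).exists_normal
  · exact h.hO p h.hp N (H1.isPiSubgroup_singleton_iff.1 h1) hb (normalizer_eq_top N)
  have cop := H1.isPiSubgroup_compl_singleton_iff.1 h1
  refine h.coprime h2 cop (by_contra fun hH => ?_)
  have xH : x ∈ N ⊔ zpowers x := mem_sup_right (mem_zpowers x)
  have : 𝐂(N) = ⊤ := h.hN _ fun g => cjm (nrm_top _ g) fun n hn => by
    have wN := cl hn (nrm_top N x)
    refine commutatorElement_eq_one_iff_mul_comm.1 (mem_bot.1 (mem_of_cop h.hp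
      (cop.coprime_dvd_left (H1.orderOf_dvd_card_of_mem wN)) fun r hr hne z hz pz => by_contra fun z1 => ?_))
    have zO := h.hA _ hH r hr hne z (zpowers_le.2 (cr (n_DD (le_normalizer (mem_sup_left hn)))
      (mem_DD (IsConj.refl x) xH)) hz) pz
    exact h.hO r hr _ (H1.isPGroup_pCoreOf N) (ne_bot_of (H1.pCoreOf_inf_le le_sup_left
      ⟨zO, zpowers_le.2 wN hz⟩) fun e => z1 (mem_bot.2 e))
      (top_le_iff.1 fun g _ => H1.normalizer_le_normalizer_pCoreOf N (nrm_top N g))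
  obtain ⟨⟨a, ha⟩, a1⟩ := ne_bot_iff_exists_ne_one.1 hb
  exact h.cne (fun e : a = 1 => a1 (Subtype.ext e)) (top_le_iff.1 fun g _ => cm1.2 ((this ▸ mem_top g : g ∈ 𝐂(N)) a ha).symm)

omit h2 in
theorem false : False := by
  by_cases h2 : p = 2
  · subst h2; exact h.two
  exact h.cyc h2 fun b hb bp => by_contra fun nm => h.caseE h2 hb bp nm

end Cx

theorem good_top (hp : p.Prime) {x : G} (px : Pe p x) (h : Hyp p x) : Good p ⊤ x :=
  main hp (fun _ _ _ _ h => h.false) _ G x rfl px h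

end H81.FB
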