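import Cfsg.Agent.Lib.FB.Loc
import Cfsg.Agent.S3816
import Cfsg.Agent.S0199

/-! Flavell's `F₂` theorem, part 4: invariant `q`-subgroups for odd `p`. -/

set_option autoImplicit false
set_option linter.unusedSectionVars false

namespace H81.FB
open Subgroup H68 Cfsg
open scoped commutatorElement

local notation:max "𝐂(" A ")" => Subgroup.centralizer (SetLike.coe A)
local notation:max "𝐍(" A ")" => Subgroup.normalizer (SetLike.coe A)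
local notation:max "𝐂[" x "]" => Subgroup.centralizer (Singleton.singleton x)

variable {G : Type*} [Group G] [Finite G] {p q : ℕ}

theorem BS (hq : q.Prime) {C : Subgroup G} {w : G} (hw : w ∈ C) (pw : Pe q w)
    (h : ∀ c ∈ C, ∃ O : Subgroup G, IsPGroup q O ∧ w ∈ O ∧ c * w * c⁻¹ ∈ O) : w ∈ pCoreOf q C := by
  haveI := Fact.mk hq
  obtain ⟨N, hN, h1, h2⟩ := Cfsg.Agent.S0199.result (zpowers (⟨w, hw⟩ : C))
    (Pe.zp (Pe.of_map (f := C.subtype) C.subtype_injective pw)) fun c => by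
      obtain ⟨O, a1, a2, a3⟩ := h c c.2
      refine (isPGroup_subgroupOf a1 C).to_le (sup_le (zpowers_le.2 a2) ?_)
      rw [MonoidHom.map_zpowers]; exact zpowers_le.2 a3
  exact ⟨⟨w, hw⟩, H1.le_pCore h1 (h2 (mem_zpowers _)), rfl⟩

theorem comm_zp {M : Subgroup G} {t x a : G} (hx : x ∈ 𝐍(M)) (h : ⁅t, x⁆ ∈ M) (ha : a ∈ zpowers x) :
    ⁅t, a⁆ ∈ M := by
  obtain ⟨n, rfl⟩ := mem_powers_iff_mem_zpowers.2 ha
  clear ha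
  induction n with
  | zero => simp
  | succ n ih =>
    rw [show ⁅t, x ^ (n + 1)⁆ = ⁅t, x⁆ * (x * ⁅t, x ^ n⁆ * x⁻¹) by
      simp only [commutatorElement_def, pow_succ']; group]
    exact mul_mem h (cjm hx ih)

theorem mem_DD {x d : G} {H : Subgroup G} (h1 : IsConj x d) (h2 : d ∈ H) :
    d ∈ closure {d | IsConj x d ∧ d ∈ H} := subset_closure ⟨h1, h2⟩

theorem ex_comm {T : Subgroup G} {x : G} (h : ⁅T, zpowers x⁆ ≠ ⊥) : ∃ t ∈ T, ⁅t, x⁆ ≠ 1 := by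
  by_contra hc
  push Not at hc
  exact h (comm_bot.2 fun t ht => cm1.2 (commutatorElement_eq_one_iff_mul_comm.1 (hc t ht)))

theorem ne_bot_of {A : Subgroup G} {a : G} (ha : a ∈ A) (h : a ≠ 1) : A ≠ ⊥ := fun e => h (mem_bot.1 (e ▸ ha))

theorem max_cj {F : Set (Subgroup G)} {Γ S : Subgroup G} (hcj : ∀ g ∈ Γ, ∀ S ∈ F, cj g S ∈ F)
    (hS : Maximal (· ∈ F) S) {g : G} (hg : g ∈ Γ) : Maximal (· ∈ F) (cj g S) :=
  ⟨hcj g hg _ hS.1, fun U hU hle => le_cj_iff.2 (hS.2 (hcj _ (inv_mem hg) U hU) (cj_le_iff.1 hle))⟩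

/-- invariant `q`-subgroups whose fixed points lie in `O_q(C(x))` -/
def Fam (q : ℕ) (x : G) : Set (Subgroup G) :=
  {S | IsPGroup q S ∧ x ∈ 𝐍(S) ∧ S ⊓ 𝐂[x] ≤ pCoreOf q 𝐂[x]}

theorem eqns_Odd : True := by have := @Fam.eq_1.{0}; trivial

theorem fam_cj {x : G} : ∀ g ∈ 𝐂[x], ∀ S ∈ Fam q x, cj g S ∈ Fam q x := fun g hg S hS => by
  refine ⟨isPGroup_cj g hS.1, ?_, ?_⟩
  · rw [← cj_normalizer, mem_cj, mul_assoc, ← cm1.1 hg, inv_mul_cancel_left]; exact hS.2.1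
  · rw [← cj_eq_of_mem hg, ← cj_inf, cj_eq_of_mem hg, ← cj_eq_of_mem_normalizer (n_core hg)]
    exact cj_mono g hS.2.2

namespace Cx
variable {x : G} (h : Cx p x)
include h

theorem FIN0 (F : Set (ℕ × Subgroup G)) (hF : ∀ V ∈ F, V.1.Prime)
    (gen : ∀ M : Subgroup G, x ∈ M → (∀ V ∈ F, ⁅V.2, zpowers x⁆ ≤ M) → M = ⊤)
    (h1 : ∀ V ∈ F, ∀ W ∈ F, V.1 ≠ W.1 → ⁅V.2, zpowers x⁆ ≤ 𝐂(⁅W.2, zpowers x⁆))
    (h2 : ∀ V ∈ F, ⁅V.2, zpowers x⁆ ≠ ⊥ → ∃ S : Subgroup G, IsPGroup V.1 S ∧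
      ∀ W ∈ F, W.1 = V.1 → ⁅W.2, zpowers x⁆ ≤ S) : False := by
  by_cases hb : ∀ V ∈ F, ⁅V.2, zpowers x⁆ = ⊥
  · obtain ⟨H, a1, a2, -⟩ := h.h1 x
    exact a1 (gen H a2 fun V hV => hb V hV ▸ bot_le)
  push Not at hb
  obtain ⟨V, hV, hb⟩ := hb
  obtain ⟨S, hS, hle⟩ := h2 V hV hb
  let K : Subgroup G := ⨆ W : {W // W ∈ F ∧ W.1 = V.1}, ⁅W.1.2, zpowers x⁆
  have le : ∀ W ∈ F, W.1 = V.1 → ⁅W.2, zpowers x⁆ ≤ K := fun W hW e =>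
    le_iSup (fun W : {W // W ∈ F ∧ W.1 = V.1} => ⁅W.1.2, zpowers x⁆) ⟨W, hW, e⟩
  refine h.hO _ (hF V hV) K (hS.to_le (iSup_le fun W => hle _ W.2.1 W.2.2))
    (fun e => hb (le_bot_iff.1 (e ▸ le V hV rfl))) (gen _ (mem_normalizer_of_cj_le ?_) fun W hW => ?_)
  · rw [cj_iSup]; exact iSup_mono fun W => (cj_eq_of_mem_normalizer (x_comm _ x)).le
  · by_cases e : W.1 = V.1
    · exact (le W hW e).trans le_normalizer
    · exact (le_centralizer_iff.1 (iSup_le fun U => h1 _ U.2.1 W hW fun e' => e (e'.symm.trans U.2.2))).trans (c_le_n K)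

theorem pair {r : ℕ} (hq : q.Prime) (hne : q ≠ p) (hr : r.Prime) (hne' : r ≠ p) (hqr : q ≠ r)
    {V W : Subgroup G} (hV : IsPGroup q V) (xV : x ∈ 𝐍(V)) (hW : IsPGroup r W) (xW : x ∈ 𝐍(W))
    (hp : ∀ t ∈ V, ∀ u ∈ W, ∃ H : Subgroup G, H ≠ ⊤ ∧ x ∈ H ∧ t * x * t⁻¹ ∈ H ∧ u * x * u⁻¹ ∈ H) :
    ⁅V, zpowers x⁆ ≤ 𝐂(⁅W, zpowers x⁆) := by
  refine commutator_le.2 fun t ht a ha => ?_
  suffices ⁅W, zpowers x⁆ ≤ 𝐂[⁅t, a⁆] from fun y hy => cm1.1 (this hy)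
  refine commutator_le.2 fun u hu b hb => cm1.2 ?_
  obtain ⟨H, a1, a2, a3, a4⟩ := hp t ht u hu
  exact (core_comm hr hq hqr (comm_zp (n_core a2) (comm_le_self (n_core a2)
    (h.A1 a1 hr hne' a2 a4 (pe_of_mem hW (cl hu xW)))) hb) (comm_zp (n_core a2) (comm_le_self (n_core a2)
    (h.A1 a1 hq hne a2 a3 (pe_of_mem hV (cl ht xV)))) ha)).eq

variable (h2 : p ≠ 2) (hq : q.Prime) (hne : q ≠ p)
include h2 hq hne

theorem R2 {T : Subgroup G} (hT : IsPGroup q T) (hx : x ∈ 𝐍(T)) :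
    ⁅T, zpowers x⁆ ⊓ 𝐂[x] ≤ pCoreOf q 𝐂[x] := by
  haveI := Fact.mk h.hp; haveI := Fact.mk hq
  haveI := H1.isSolvable_of_isPGroup hT
  let φ : MulAut T := T.normalizerMonoidHom ⟨x, hx⟩
  have ap : ∀ (i : ℕ) (t : T), ((φ ^ i) t : G) = x ^ i * t * (x ^ i)⁻¹ := fun i t => by
    rw [← map_pow]; rfl
  by_cases e : φ = 1
  · rw [comm_bot.2 fun t ht => cm1.2 ?_, bot_inf_eq]; exact bot_le
    have := ap 1 ⟨t, ht⟩
    rw [e, one_pow, pow_one] at this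
    exact mul_inv_eq_iff_eq_mul.1 this.symm |>.symm
  have ho : orderOf φ = p := orderOf_eq_prime (by ext t; rw [ap, h.xp]; simp) e
  have key := Cfsg.Agent.S3816.result h2 (by
    have := cop_card h.hp hq hne h.pe.zp hT
    rw [Nat.card_zpowers, h.ho] at this; exact this.symm) φ ho
  rintro z ⟨hz, hc⟩
  have hzT := comm_le_self hx hz
  have h1 : ⁅T, zpowers x⁆ ≤ (closure {c : T | ∃ g : T, ∃ i : ℕ, c = g⁻¹ * (φ ^ i) g}).map T.subtype :=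
    commutator_le.2 fun t ht a ha => by
      obtain ⟨n, rfl⟩ := mem_powers_iff_mem_zpowers.2 ha
      exact ⟨_, subset_closure ⟨⟨t⁻¹, inv_mem ht⟩, n, rfl⟩, by simp [ap, commutatorElement_def, mul_assoc]⟩
  obtain ⟨z', hz', rfl⟩ := h1 hz
  have fx : ∀ w : T, w ∈ (φ : T →* T).eqLocus (MonoidHom.id T) ↔ (w : G) ∈ 𝐂[x] := fun w => by
    have := ap 1 w
    rw [pow_one, pow_one] at this
    change φ w = w ↔ _
    rw [Subtype.ext_iff, this, cm1, mul_inv_eq_iff_eq_mul, eq_comm]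
  have h3 := key.le (mem_inf.2 ⟨hz', (fx z').2 hc⟩)
  refine (iSup_le (a := (pCoreOf q 𝐂[x]).comap T.subtype) fun g => ?_) h3
  rintro w ⟨w1, w2⟩
  refine BS hq ((fx w).1 w2) (pe_of_mem hT w.2) fun c hc => ?_
  obtain ⟨H, a1, a2, a3, a4⟩ := h.B hq hne hT hx (inv_mem g.2) hc
  have : (w : G) ∈ pCoreOf q H := h.hA H a1 q hq hne w ((closure_le ((closure
    {d | IsConj x d ∧ d ∈ H}).comap T.subtype)).2 (by
      rintro _ ⟨i, rfl⟩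
      change (g : G)⁻¹ * ((φ ^ i) g : G) ∈ Subgroup.closure _
      rw [ap, show (g : G)⁻¹ * (x ^ i * g * (x ^ i)⁻¹) = ((g : G)⁻¹ * x * (g : G)⁻¹⁻¹) ^ i * (x ^ i)⁻¹ by
        rw [conj_pow]; group]
      exact mul_mem (pow_mem (mem_DD (isConj_iff.2 ⟨_, rfl⟩) a3) i)
        (inv_mem (pow_mem (mem_DD (IsConj.refl x) a2) i))) w1) (pe_of_mem hT w.2)
  exact ⟨_, H1.isPGroup_pCoreOf H, this, cjm (n_core a4) this⟩

theorem fam {T : Subgroup G} (hT : IsPGroup q T) (hx : x ∈ 𝐍(T)) : ⁅T, zpowers x⁆ ∈ Fam q x :=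
  ⟨hT.to_le (comm_le_self hx), x_comm T x, h.R2 h2 hq hne hT hx⟩

theorem R3 {S S' : Subgroup G} (hS : Maximal (· ∈ Fam q x) S) (hS' : Maximal (· ∈ Fam q x) S')
    {a : G} (h1 : a ∈ S) (h1' : a ∈ S') (a1 : a ≠ 1) : S = S' := by
  suffices H : ∃ g ∈ (⊥ : Subgroup G), cj g S' = S by
    obtain ⟨g, hg, e⟩ := H
    rw [← e, mem_bot.1 hg, cj_one]
  refine TL hq (Fam q x) ⊥ (fun S hS => hS.1) (fun g hg S hS => by rwa [mem_bot.1 hg, cj_one])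
    (fun S hS S' hS' => ⟨hS.1.to_le inf_le_left, n_inf hS.2.1 hS'.2.1,
      (inf_le_inf_right _ inf_le_left).trans hS.2.2⟩)
    (fun S hS I hI => ⟨hS.1.to_le inf_le_left, n_inf hS.2.1 (n_n hI.2.1),
      (inf_le_inf_right _ inf_le_left).trans hS.2.2⟩) (fun I hI hb U hU U' hU' n1 n2 => ?_) hS hS'
      (ne_bot_of (A := S ⊓ S') ⟨h1, h1'⟩ a1)
  have hN := h.hO q hq I hI.1 hb
  have hO := H1.isPGroup_pCoreOf (p := q) 𝐍(I)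
  have xO : x ∈ 𝐍(pCoreOf q 𝐍(I)) := n_core hI.2.1
  have nz : pCoreOf q 𝐂[x] ⊓ 𝐍(I) ≤ 𝐍(⁅pCoreOf q 𝐍(I), zpowers x⁆) := fun z hz =>
    n_comm (n_core hz.2) (c_nzp (H1.pCoreOf_le _ hz.1))
  have le : ∀ U ∈ Fam q x, U ≤ 𝐍(I) → U ≤ ⁅pCoreOf q 𝐍(I), zpowers x⁆ ⊔ (pCoreOf q 𝐂[x] ⊓ 𝐍(I)) :=
    fun U hU n => by
      rw [← dec h.hp hq hne h.pe hU.1 hU.2.1]
      exact sup_le_sup (h.ax hN hq hne hI.2.1 hU.1 n hU.2.1) (le_inf hU.2.2 (inf_le_left.trans n))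
  refine ⟨1, one_mem _, one_mem _, _, ⟨?_, ?_, ?_⟩, le U hU n1, by rw [cj_one]; exact le U' hU' n2⟩
  · exact (hO.to_le (comm_le_self xO)).to_sup_of_normal_left' ((H1.isPGroup_pCoreOf _).to_le inf_le_left) nz
  · exact n_sup (x_comm _ x) (n_inf (n_core (cm1.2 rfl)) (n_n hI.2.1))
  · rintro w ⟨w1, w2⟩
    obtain ⟨v, hv, z, hz, rfl⟩ := (mem_sup_of_le_normalizer' nz).1 w1
    exact mul_mem (h.R2 h2 hq hne hO xO ⟨hv, (mul_mem_cancel_right (H1.pCoreOf_le _ hz.1)).1 w2⟩) hz.1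

theorem le_max {S V : Subgroup G} (hS : Maximal (· ∈ Fam q x) S) (hV : V ∈ Fam q x) {a : G} (h1 : a ∈ S)
    (h1' : a ∈ V) (a1 : a ≠ 1) : V ≤ S := by
  obtain ⟨S', b1, b2⟩ := Finite.exists_le_maximal (p := (· ∈ Fam q x)) hV
  exact h.R3 h2 hq hne hS b2 h1 (b1 h1') a1 ▸ b1

theorem R4 {S : Subgroup G} (hS : Maximal (· ∈ Fam q x) S) (hb : ⁅S, zpowers x⁆ ≠ ⊥) : 𝐂[x] ≤ 𝐍(S) := by
  intro c hc
  obtain ⟨t, ht, t1⟩ := ex_comm hb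
  obtain ⟨H, a1, a2, a3, a4⟩ := h.B hq hne hS.1.1 hS.1.2.1 ht hc
  have w1 := cl ht hS.1.2.1
  have w2 := h.A1 a1 hq hne a2 a3 (pe_of_mem hS.1.1 w1)
  have hV := h.le_max h2 hq hne hS (h.fam h2 hq hne (H1.isPGroup_pCoreOf H) (n_core a2)) w1 w2 t1
  exact mem_normalizer_iff_cj.2 (h.R3 h2 hq hne (max_cj fam_cj hS hc) hS (mem_cj.2 (hV
    (conj_mem_of_mem_normalizer' (n_comm (n_core a4) (c_nzp hc)) w2))) w1 t1)

omit hq hne in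
theorem GEN2 {M : Subgroup G} (hxM : x ∈ M) (hM : ∀ q : ℕ, q.Prime → q ≠ p → ∀ S : Subgroup G,
    Maximal (· ∈ Fam q x) S → ⁅S, zpowers x⁆ ≠ ⊥ → 𝐂[x] ≤ 𝐍(S) → ⁅S, zpowers x⁆ ≤ M) : M = ⊤ := by
  refine h.GEN hxM fun q hq hne T hT hx => ?_
  by_cases hb : ⁅T, zpowers x⁆ = ⊥
  · exact hb ▸ bot_le
  obtain ⟨S, b1, b2⟩ := Finite.exists_le_maximal (p := (· ∈ Fam q x)) (h.fam h2 hq hne hT hx)
  have : ⁅T, zpowers x⁆ ≤ ⁅S, zpowers x⁆ := (idem h.hp hq hne h.pe hT hx).ge.trans (commutator_mono b1 le_rfl)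
  have hb' : ⁅S, zpowers x⁆ ≠ ⊥ := fun e => hb (le_bot_iff.1 (e ▸ this))
  exact this.trans (hM q hq hne S b2 hb' (h.R4 h2 hq hne b2 hb'))

omit hq hne in
theorem FIN (F : Set (ℕ × Subgroup G))
    (hF : ∀ V ∈ F, V.1.Prime ∧ V.1 ≠ p ∧ IsPGroup V.1 V.2 ∧ x ∈ 𝐍(V.2))
    (gen : ∀ M : Subgroup G, x ∈ M → (∀ V ∈ F, ⁅V.2, zpowers x⁆ ≤ M) → M = ⊤)
    (hp : ∀ V ∈ F, ∀ W ∈ F, ∀ t ∈ V.2, ∀ u ∈ W.2,
      ∃ H : Subgroup G, H ≠ ⊤ ∧ x ∈ H ∧ t * x * t⁻¹ ∈ H ∧ u * x * u⁻¹ ∈ H) : False := by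
  refine h.FIN0 F (fun V hV => (hF V hV).1) gen (fun V hV W hW e => ?_) fun V hV hb => ?_
  · obtain ⟨a1, a2, a3, a4⟩ := hF V hV
    obtain ⟨b1, b2, b3, b4⟩ := hF W hW
    exact h.pair a1 a2 b1 b2 e a3 a4 b3 b4 (hp V hV W hW)
  obtain ⟨a1, a2, a3, a4⟩ := hF V hV
  obtain ⟨S, c1, c2⟩ := Finite.exists_le_maximal (p := (· ∈ Fam V.1 x)) (h.fam h2 a1 a2 a3 a4)
  refine ⟨S, c2.1.1, fun W hW e => ?_⟩
  obtain ⟨-, -, b3, b4⟩ := hF W hW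
  rw [e] at b3
  by_cases hb' : ⁅W.2, zpowers x⁆ = ⊥
  · exact hb' ▸ bot_le
  obtain ⟨t, ht, t1⟩ := ex_comm hb
  obtain ⟨u, hu, u1⟩ := ex_comm hb'
  obtain ⟨H, d1, d2, d3, d4⟩ := hp V hV W hW t ht u hu
  have := h.le_max h2 a1 a2 c2 (h.fam h2 a1 a2 (H1.isPGroup_pCoreOf H) (n_core d2)) (c1 (mem_comm x ht))
    (h.A1 d1 a1 a2 d2 d3 (pe_of_mem a3 (cl ht a4))) t1
  exact h.le_max h2 a1 a2 c2 (h.fam h2 a1 a2 b3 b4)
    (this (h.A1 d1 a1 a2 d2 d4 (pe_of_mem b3 (cl hu b4)))) (mem_comm x hu) u1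

end Cx

end H81.FB
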