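import Cfsg.Agent.Lib.FB.Odd
import Cfsg.Agent.Lib.PGroup.Rank

/-! Flavell's `F₂` theorem, part 5: `x` lies in an elementary abelian group of order `p²`. -/

set_option autoImplicit false
set_option linter.unusedSectionVars false

namespace H81.FB
open Subgroup H68 Cfsg
open scoped commutatorElement

local notation:max "𝐂(" A ")" => Subgroup.centralizer (SetLike.coe A)
local notation:max "𝐍(" A ")" => Subgroup.normalizer (SetLike.coe A)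
local notation:max "𝐂[" x "]" => Subgroup.centralizer (Singleton.singleton x)

variable {G : Type*} [Group G] [Finite G] {p q : ℕ}

theorem card_zp (hp : p.Prime) {a : G} (h : a ^ p = 1) (h1 : a ≠ 1) : Nat.card (zpowers a) = p := by
  haveI := Fact.mk hp; rw [Nat.card_zpowers, orderOf_eq_prime h h1]

theorem zp_pow {a x : G} (h : x ^ p = 1) (ha : a ∈ zpowers x) : a ^ p = 1 := by
  obtain ⟨i, rfl⟩ := ha
  change (x ^ i) ^ p = 1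
  rw [← zpow_natCast, ← zpow_mul, mul_comm, zpow_mul, zpow_natCast, h, one_zpow]

theorem c_eq (hp : p.Prime) {a x : G} (h : x ^ p = 1) (ha : a ∈ zpowers x) (h1 : a ≠ 1) :
    zpowers a = zpowers x ∧ 𝐂[a] = 𝐂[x] := by
  have : zpowers a = zpowers x := eq_of_le_of_card_ge (zpowers_le.2 ha) (by
    rw [card_zp hp (zp_pow h ha) h1, card_zp hp h (by rintro rfl; exact h1 (by simpa using ha))])
  exact ⟨this, by rw [← c_zp, this, c_zp]⟩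

theorem cab {A : Subgroup G} (hA : IsMulCommutative A) {a b : G} (ha : a ∈ A) (hb : b ∈ A) : a * b = b * a :=
  congrArg Subtype.val (hA.is_comm.comm (⟨a, ha⟩ : A) ⟨b, hb⟩)

theorem el_sup (hp : p.Prime) {A : Subgroup G} (hA : IsMulCommutative A) (e : ∀ a ∈ A, a ^ p = 1) {b : G}
    (hb : b ∈ 𝐂(A)) (bp : b ^ p = 1) (nm : b ∉ A) : IsMulCommutative (A ⊔ zpowers b : Subgroup G) ∧
    (∀ a ∈ A ⊔ zpowers b, a ^ p = 1) ∧ Nat.card (A ⊔ zpowers b : Subgroup G) = Nat.card A * p := by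
  refine ⟨H5.isMulCommutative_sup_zpowers hA hb, fun a ha => ?_,
    H5.card_sup_zpowers hp (c_le_n A hb) nm (bp ▸ one_mem A)⟩
  obtain ⟨k, hk, i, rfl⟩ := (H5.mem_sup_zpowers_iff_nat (c_le_n A hb)).1 ha
  rw [((show Commute k b from hb k hk).pow_right i).mul_pow, e k hk, pow_right_comm, bp, one_pow, one_mul]

/-- `E` is elementary abelian of order `p²` and contains `x` -/
structure El (p : ℕ) (x : G) (E : Subgroup G) : Prop where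
  ab : IsMulCommutative E
  exp : ∀ a ∈ E, a ^ p = 1
  card : Nat.card E = p * p
  mem : x ∈ E

namespace El
variable {x : G} {E : Subgroup G} (h : El p x E) (hp : p.Prime)
include h

theorem le : E ≤ 𝐂[x] := fun _ ha => cm1.2 (cab h.ab ha h.mem)

theorem pg : IsPGroup p E := H3.isPGroup_of_pow_eq_one h.exp

include hp

theorem two {a b : G} (ha : a ∈ E) (hb : b ∈ E) (a1 : a ≠ 1) (nm : b ∉ zpowers a) :
    zpowers a ⊔ zpowers b = E :=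
  H5.eq_sup_zpowers_of_card hp (zpowers_le.2 ha) (by rw [h.card, card_zp hp (h.exp a ha) a1]) hb nm

theorem nc : ¬ IsCyclic E := fun hc => by
  obtain ⟨g, hg⟩ := hc.exists_ofOrder_eq_natCard
  have := Nat.le_of_dvd hp.pos (orderOf_dvd_of_pow_eq_one (x := g) (Subtype.ext (h.exp g g.2)))
  rw [hg, h.card] at this
  nlinarith [hp.two_le]

end El

namespace Cx
variable {x : G} (h : Cx p x)
include h

theorem el {b : G} (hb : b ∈ 𝐂[x]) (bp : b ^ p = 1) (nm : b ∉ zpowers x) : El p x (zpowers x ⊔ zpowers b) := by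
  obtain ⟨a1, a2, a3⟩ := el_sup h.hp (A := zpowers x) inferInstance (fun a => zp_pow h.xp) (c_zp x ▸ hb) bp nm
  exact ⟨a1, a2, by rw [a3, card_zp h.hp h.xp h.x1], mem_sup_left (mem_zpowers x)⟩

theorem a' {H Q : Subgroup G} (hH : H ≠ ⊤) (hq : q.Prime) (hne : q ≠ p) {d : G}
    (hd : d ∈ closure {d | IsConj x d ∧ d ∈ H}) (hQ : IsPGroup q Q) (hle : Q ≤ H) (hn : d ∈ 𝐍(Q)) :
    ⁅Q, zpowers d⁆ ≤ pCoreOf q H :=
  comm_le (n_core ((closure_le H).2 (fun _ hd => hd.2) hd)) fun t ht => h.hA H hH q hq hne _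
    (cr (n_DD (le_normalizer (hle ht))) hd) (pe_of_mem hQ (cl ht hn))

theorem hypE {E T M : Subgroup G} (hE : El p x E) (hq : q.Prime) (hne : q ≠ p) (hT : IsPGroup q T)
    (hn : E ≤ 𝐍(T)) (hM : ∀ a ∈ E, a ∉ zpowers x → ⁅pCoreOf q 𝐂[a], zpowers x⁆ ≤ M) : ⁅T, zpowers x⁆ ≤ M := by
  refine hyp h.hp hq hne h.pe hT (hn hE.mem) hE.ab hE.pg hn hE.le fun B hB hc => ?_
  obtain ⟨⟨a, ha⟩, a1⟩ := ne_bot_iff_exists_ne_one.1 (H2.ne_bot_of_cocyclic (hE.nc h.hp) hc)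
  have a1 : a ≠ 1 := fun e => a1 (Subtype.ext e)
  have le : T ⊓ 𝐂(B) ≤ 𝐂[a] := fun t ht => cm1.2 (ht.2 a ha).symm
  by_cases hx : a ∈ zpowers x
  · rw [comm_bot.2 ((c_eq h.hp h.xp hx a1).2 ▸ le)]; exact bot_le
  · exact (h.ax (h.cne a1) hq hne (cm1.2 (cab hE.ab hE.mem (hB ha))) (hT.to_le inf_le_left) le
      (n_inf (hn hE.mem) (le_normalizer fun b hb => cab hE.ab (hB hb) hE.mem))).trans (hM a (hB ha) hx)

variable (h2 : p ≠ 2)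
include h2

theorem GENE {E M : Subgroup G} (hE : El p x E) (hxM : x ∈ M) (hM : ∀ q : ℕ, q.Prime → q ≠ p →
    ∀ a ∈ E, a ∉ zpowers x → ⁅pCoreOf q 𝐂[a], zpowers x⁆ ≤ M) : M = ⊤ :=
  h.GEN2 h2 hxM fun q hq hne _ hS _ hn => h.hypE hE hq hne hS.1.1 (hE.le.trans hn) (hM q hq hne)

theorem JT {E : Subgroup G} (hE : El p x E) (he : ∀ f, IsConj x f → f ∈ 𝐂[x] → f ∈ E) : False := by
  refine h.FIN h2 {V | V.1.Prime ∧ V.1 ≠ p ∧ ∃ a ∈ E, a ∉ zpowers x ∧ V.2 = pCoreOf V.1 𝐂[a]} ?_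
    (fun M hxM hM => h.GENE h2 hE hxM fun q hq hne a ha nm => hM (q, _) ⟨hq, hne, a, ha, nm, rfl⟩) ?_
  · rintro ⟨q, V⟩ ⟨hq, hne, a, ha, -, (rfl : V = pCoreOf q 𝐂[a])⟩
    exact ⟨hq, hne, H1.isPGroup_pCoreOf _, n_core (cm1.2 (cab hE.ab hE.mem ha))⟩
  rintro ⟨q, V⟩ ⟨hq, hne, a, ha, nm, (rfl : V = pCoreOf q 𝐂[a])⟩ ⟨r, W⟩
    ⟨hr, hne', b, hb, nm', (rfl : W = pCoreOf r 𝐂[b])⟩ t ht u hu
  have a1 : a ≠ 1 := fun e => nm (e ▸ one_mem _)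
  have b1 : b ≠ 1 := fun e => nm' (e ▸ one_mem _)
  have xa : x ∈ 𝐂[a] := cm1.2 (cab hE.ab hE.mem ha)
  have xb : x ∈ 𝐂[b] := cm1.2 (cab hE.ab hE.mem hb)
  have ta : t ∈ 𝐂[a] := H1.pCoreOf_le _ ht
  have ub : u ∈ 𝐂[b] := H1.pCoreOf_le _ hu
  by_cases hab : a ∈ zpowers b
  · have ua : u ∈ 𝐂[a] := (c_eq h.hp (hE.exp b hb) hab a1).2 ▸ ub
    exact ⟨_, h.cne a1, xa, cjm (le_normalizer ta) xa, cjm (le_normalizer ua) xa⟩
  have hd := h.conj t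
  have c1 : IsConj (t * x * t⁻¹) (u * x * u⁻¹) := isConj_iff.2 ⟨u * t⁻¹, by group⟩
  have ad : a ∈ 𝐂[t * x * t⁻¹] := cm1.2 (cm1.1 (cjm (le_normalizer ta) xa)).symm
  have : ∃ H : Subgroup G, H ≠ ⊤ ∧ t * x * t⁻¹ ∈ H ∧ u * x * u⁻¹ ∈ H ∧ a ∈ H := by
    obtain ⟨k, hk, P, hP, hle, d1, d2⟩ := hd.Sy c1
    by_cases hf : k * (u * x * u⁻¹) * k⁻¹ ∈ zpowers (t * x * t⁻¹)
    · exact hd.F1 c1 hk hf ad
    obtain ⟨e, e1, e2, e3, e4⟩ := PC h.hp hP (zpowers_le.2 d1) (zpowers_le.2 (mem_DD (IsConj.refl _)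
      (mem_zpowers _))) (c1.trans (isConj_iff.2 ⟨k, rfl⟩)) d2 hf
    have e5 := commutatorElement_eq_one_iff_mul_comm.1 (mem_bot.1 (jone h.hp (N := ⊥) (nrm_top _ e)
      (fun y hy => by rw [mem_bot.1 hy]; simp) (hd.of_conj e1).xp hd.xp (by simpa using hd.x1) (mem_sup_right (cjm e4 (mem_zpowers _)))))
    have e6 : t⁻¹ * e * t ∈ E := he _ ((isConj_iff.2 ⟨t, rfl⟩ : IsConj x _).trans (e1.trans
      (isConj_iff.2 ⟨t⁻¹, by group⟩))) (cm1.2 (by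
        calc _ = t⁻¹ * (e * (t * x * t⁻¹)) * t := by group
          _ = _ := by rw [e5]; group))
    have e7 := hE.two h.hp hE.mem e6 h.x1 fun hm => e3 (by
      obtain ⟨i, hi⟩ := hm
      exact ⟨i, by simp only [conj_zpow] at hi ⊢; rw [hi]; group⟩)
    obtain ⟨H, f1, f2, f3⟩ := hd.h1 (u * x * u⁻¹)
    have eH : e ∈ H := (closure_le H).2 (by rintro _ (rfl | rfl) <;> assumption) (hle e2)
    have : E ≤ cj t⁻¹ H := e7 ▸ sup_le (zpowers_le.2 (mem_cj.2 (by simpa using f2)))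
      (zpowers_le.2 (mem_cj.2 (by simpa [mul_assoc] using eH)))
    have := mem_cj.1 (this ha)
    rw [inv_inv, cm1.1 ta, mul_inv_cancel_right] at this
    exact ⟨H, f1, f2, f3, this⟩
  obtain ⟨H, f1, f2, f3, f4⟩ := this
  refine ⟨H, f1, ?_, f2, f3⟩
  obtain ⟨s, hs, i, e⟩ := (H5.mem_sup_zpowers_iff_nat (c_nzp xb)).1
    ((hE.two h.hp hb hE.mem b1 fun hm => nm' ((c_eq h.hp (hE.exp b hb) hm h.x1).1 ▸ mem_zpowers b)) ▸ ha)
  have hv : ⁅u, x ^ i⁆ ∈ pCoreOf r 𝐂[b] := cl hu (pow_mem (n_core xb) i)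
  have cv : Commute ⁅u, x ^ i⁆ s⁻¹ :=
    Commute.inv_right ((c_zp b ▸ H1.pCoreOf_le _ hv : _ ∈ 𝐂(zpowers b)) s hs).symm
  have m1 : ⁅u, x ^ i⁆ * s⁻¹ ∈ H := by
    rw [show ⁅u, x ^ i⁆ * s⁻¹ = (u * x * u⁻¹) ^ i * a⁻¹ by rw [e, conj_pow, commutatorElement_def]; group]
    exact mul_mem (pow_mem f3 i) (inv_mem f4)
  have m2 : ⁅u, x ^ i⁆ ∈ H := (pe_of_mem (H1.isPGroup_pCoreOf _) hv).mem h.hp hr hne' (k := 1) (by
    have := pow_mem m1 p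
    rwa [cv.mul_pow, inv_pow, zp_pow (hE.exp b hb) hs, inv_one, mul_one, ← pow_one p] at this)
  have m3 : x ^ i ∈ H := (mul_mem_cancel_left (inv_mem_iff.1 ((mul_mem_cancel_left m2).1 m1))).1 (e ▸ f4)
  by_contra hx
  obtain ⟨j, rfl⟩ := H5.dvd_of_pow_mem h.hp hx (h.xp ▸ one_mem H) m3
  rw [pow_mul, h.xp, one_pow, mul_one] at e
  exact hab (e ▸ hs)

theorem case1 {e : G} (he : IsConj x e) (hc : e ∈ 𝐂[x]) {r : ℕ} (hr : r.Prime) (hne : r ≠ p) :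
    ⁅pCoreOf r 𝐂[x], zpowers e⁆ = ⊥ := by
  haveI := Fact.mk hr
  by_contra hb
  have hZ := H1.isPGroup_pCoreOf (p := r) 𝐂[x]
  have ZC : pCoreOf r 𝐂[x] ≤ 𝐂[x] := H1.pCoreOf_le _
  have xx : x ∈ 𝐂[x] := cm1.2 rfl
  obtain ⟨z, hz, z1⟩ := ex_comm hb
  have z1 : z ≠ 1 := by rintro rfl; simp at z1
  obtain ⟨S, ZS, hS⟩ := Finite.exists_le_maximal (p := (· ∈ Fam r x)) (a := pCoreOf r 𝐂[x])
    ⟨hZ, n_core xx, inf_le_left⟩
  have CS : 𝐂[x] ≤ 𝐍(S) := fun c hc => mem_normalizer_iff_cj.2 (h.R3 h2 hr hne (max_cj fam_cj hS hc) hS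
    (mem_cj.2 (ZS (conj_mem_of_mem_normalizer' (n_core hc) hz))) (ZS hz) z1)
  let ι := {V : ℕ × Subgroup G // V.1.Prime ∧ V.1 ≠ p ∧ V.1 ≠ r ∧ IsPGroup V.1 V.2 ∧ 𝐂[x] ≤ 𝐍(V.2)}
  let W : Subgroup G := ⨆ V : ι, ⁅V.1.2, zpowers x⁆
  have CW : 𝐂[x] ≤ 𝐍(W) := le_normalizer_of_forall_cj_le fun g hg => by
    rw [cj_iSup]; exact iSup_mono fun V => (cj_eq_of_mem_normalizer (n_comm (V.2.2.2.2.2 hg) (c_nzp hg))).le
  have K1 : ∀ H : Subgroup G, H ≠ ⊤ → x ∈ H → W ≤ H → pCoreOf r H ≤ 𝐂(W) := fun H hH hx hW =>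
    le_centralizer_iff.1 (iSup_le fun V => by
      obtain ⟨a1, a2, a3, a4, a5⟩ := V.2
      intro t ht y hy
      rw [← idem h.hp a1 a2 h.pe a4 (a5 xx)] at ht
      exact (core_comm hr a1 a3 hy (h.a hH a1 a2 (IsConj.refl x) hx (a4.to_le (comm_le_self (a5 xx)))
        ((le_iSup (fun V : ι => ⁅V.1.2, zpowers x⁆) V).trans hW) (x_comm _ x) ht)).eq)
  have hI : S ⊓ 𝐂(W) ≠ ⊥ := fun e' => hb (le_bot_iff.1 (e' ▸ le_inf ((comm_le_self (n_core hc)).trans ZS)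
    (le_centralizer_iff.1 (iSup_le fun V => by
      obtain ⟨a1, a2, a3, a4, a5⟩ := V.2
      by_cases hT : ⁅V.1.2, zpowers x⁆ = ⊥
      · exact hT ▸ bot_le
      have pT := a4.to_le (comm_le_self (a5 xx))
      have n : 𝐂[x] ≤ 𝐍(⁅V.1.2, zpowers x⁆) := fun c hc => n_comm (a5 hc) (c_nzp hc)
      intro t ht y hy
      exact (core_comm hr a1 a3 (h.a (h.hO _ a1 _ pT hT) hr hne he (n hc) hZ (ZC.trans n) (n_core hc) hy)
        (H1.le_pCoreOf le_normalizer le_rfl pT ht)).eq))))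
  have pI : IsPGroup r (S ⊓ 𝐂(W) : Subgroup G) := hS.1.1.to_le inf_le_left
  have CI : 𝐂[x] ≤ 𝐍(S ⊓ 𝐂(W)) := fun c hc => n_inf (CS hc) (n_c (CW hc))
  have WI : W ≤ 𝐂(S ⊓ 𝐂(W)) := le_centralizer_iff.1 inf_le_right
  have nm : e ∉ zpowers x := fun hm => hb (comm_bot.2 fun y hy => cm1.2 ((c_zp x ▸ ZC hy : y ∈ 𝐂(zpowers x)) e hm).symm)
  have hE := h.el hc (h.of_conj he).xp nm
  have SI : S ≤ 𝐍(S ⊓ 𝐂(W)) := by
    by_contra hn
    set S1 := S ⊓ 𝐍(S ⊓ 𝐂(W)) with hS1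
    have C1 : 𝐂[x] ≤ 𝐍(S1) := fun c hc => n_inf (CS hc) (n_n (CI hc))
    have C2 : 𝐂[x] ≤ 𝐍(S ⊓ 𝐍(S1)) := fun c hc => n_inf (CS hc) (n_n (C1 hc))
    have Z1 : pCoreOf r 𝐂[x] ≤ S1 := le_inf ZS (ZC.trans CI)
    have p1 : IsPGroup r S1 := hS.1.1.to_le inf_le_left
    refine (H5.lt_inf_normalizer hS.1.1 (lt_of_le_of_ne (inf_le_left : S1 ≤ S) fun e => hn (inf_eq_left.1 e))).2
      (H2.le_of_forall_centralizer_le hE.ab (hE.nc h.hp) (hE.le.trans C2)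
        (cop_card h.hp hr hne hE.pg (hS.1.1.to_le inf_le_left)) fun a ha a1 => ?_)
    by_cases hx : a ∈ zpowers x
    · rw [(c_eq h.hp h.xp hx a1).2]
      exact ((inf_le_inf_right _ inf_le_left).trans hS.1.2.2).trans Z1
    have aC := hE.le ha
    have I1 : ⁅S1, zpowers a⁆ ≤ S ⊓ 𝐂(W) := le_inf ((comm_le_self (C1 aC)).trans inf_le_left)
      ((h.a' (h.hO r hr _ pI hI) hr hne (sup_le (zpowers_le.2 (mem_DD (IsConj.refl x) (CI xx)))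
        (zpowers_le.2 (mem_DD he (CI hc))) ha) p1 inf_le_right (C1 aC)).trans
        (K1 _ (h.hO r hr _ pI hI) (CI xx) (WI.trans (c_le_n _))))
    have I0 : ⁅S1, zpowers a⁆ ≠ ⊥ := fun e' => hb (comm_bot.2 fun y hy => by
      have : zpowers x ⊔ zpowers a ≤ 𝐂[y] := sup_le (zpowers_le.2 (cm1.2 (cm1.1 (ZC hy)).symm))
        (zpowers_le.2 (cm1.2 (cm1.1 (comm_bot.1 e' (Z1 hy))).symm))
      rw [hE.two h.hp hE.mem ha h.x1 hx] at this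
      exact cm1.2 (cm1.1 (this (mem_sup_right (mem_zpowers e)))).symm)
    have xa : x ∈ 𝐂[a] := cm1.2 (cm1.1 aC).symm
    have hN := h.hO r hr _ (pI.to_le I1) I0
    have xN : x ∈ 𝐍(⁅S1, zpowers a⁆) := n_comm (C1 xx) (c_nzp xa)
    have pU : IsPGroup r (S ⊓ 𝐍(S1) ⊓ 𝐂[a] : Subgroup G) := hS.1.1.to_le (inf_le_left.trans inf_le_left)
    have xU : x ∈ 𝐍(S ⊓ 𝐍(S1) ⊓ 𝐂[a]) := n_inf (C2 xx) (c_nc xa)
    rw [← dec h.hp hr hne h.pe pU xU]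
    refine sup_le (le_trans (le_inf ((comm_le_self xU).trans (inf_le_left.trans inf_le_left))
      ((h.a hN hr hne (IsConj.refl x) xN pU (fun y hy => n_comm hy.1.2 (c_nzp hy.2)) xU).trans
      (K1 _ hN xN ((WI.trans (centralizer_le I1)).trans (c_le_n _))))) (le_inf inf_le_left le_normalizer))
      (((inf_le_inf_right _ (inf_le_left.trans inf_le_left)).trans hS.1.2.2).trans Z1)
  refine h.hO r hr _ pI hI (h.GEN2 h2 (CI xx) fun q hq hq' S' hS' _ n' => ?_)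
  by_cases e' : q = r
  · subst e'
    have : pCoreOf q 𝐂[x] ≤ S' := le_sup_right.trans (hS'.2 (y := S' ⊔ pCoreOf q 𝐂[x])
      ⟨hS'.1.1.to_sup_of_normal_left' hZ (ZC.trans n'), n_sup hS'.1.2.1 (n_core xx), by
        rintro w ⟨w1, w2⟩
        obtain ⟨v, hv, y, hy, rfl⟩ := (mem_sup_of_le_normalizer' (ZC.trans n')).1 w1
        exact mul_mem (hS'.1.2.2 ⟨hv, (mul_mem_cancel_right (ZC hy)).1 w2⟩) hy⟩ le_sup_left)
    rw [h.R3 h2 hq hne hS' hS (this hz) (ZS hz) z1]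
    exact (comm_le_self hS.1.2.1).trans SI
  · exact ((le_iSup (fun V : ι => ⁅V.1.2, zpowers x⁆) ⟨(q, S'), hq, hq', e', hS'.1.1, n'⟩).trans WI).trans (c_le_n _)

theorem rank3 {A : Subgroup G} (hA : IsMulCommutative A) (ex : ∀ a ∈ A, a ^ p = 1)
    (hc : Nat.card A = p * p * p) (hx : x ∈ A) : False := by
  have AC : A ≤ 𝐂[x] := fun a ha => cm1.2 (cab hA ha hx)
  have big : ∀ B ≤ A, (∃ a ∈ A, B ⊔ zpowers a = A) → p * p ≤ Nat.card B := fun B hB ⟨a, ha, e⟩ => by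
    have h1 := Nat.le_of_dvd (Nat.mul_pos Nat.card_pos Nat.card_pos) (H1.card_sup_dvd_of_le_normalizer
      (H := zpowers a) (N := B) (zpowers_le.2 (c_le_n B fun b hb => cab hA (hB hb) ha)))
    rw [sup_comm, e, hc, Nat.card_zpowers, mul_comm] at h1
    exact Nat.le_of_mul_le_mul_left (h1.trans (Nat.mul_le_mul_right _ (Nat.le_of_dvd h.hp.pos
      (orderOf_dvd_of_pow_eq_one (ex a ha))))) h.hp.pos
  refine h.FIN h2 {V | V.1.Prime ∧ V.1 ≠ p ∧ ∃ S B : Subgroup G, IsPGroup V.1 S ∧ 𝐂[x] ≤ 𝐍(S) ∧ B ≤ A ∧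
    (∃ a ∈ A, B ⊔ zpowers a = A) ∧ V.2 = S ⊓ 𝐂(B)} ?_ (fun M hxM hM => h.GEN2 h2 hxM
      fun q hq hne S hS _ hn => hyp h.hp hq hne h.pe hS.1.1 hS.1.2.1 hA (H3.isPGroup_of_pow_eq_one ex)
        (AC.trans hn) AC fun B hB hc => hM (q, _) ⟨hq, hne, S, B, hS.1.1, hn, hB, hc, rfl⟩) ?_
  · rintro ⟨q, V⟩ ⟨hq, hne, S, B, a1, a2, a3, -, rfl⟩
    exact ⟨hq, hne, a1.to_le inf_le_left, n_inf (a2 (cm1.2 rfl)) (le_normalizer fun b hb => cab hA (a3 hb) hx)⟩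
  rintro ⟨q, V⟩ ⟨-, -, S, B, -, -, a3, a4, rfl⟩ ⟨r, W⟩ ⟨-, -, S', B', -, -, b3, b4, rfl⟩ t ht u hu
  have : B ⊓ B' ≠ ⊥ := fun e => by
    have h1 := H2.card_sup_of_le_normalizer (A := B) (K := B')
      (fun a ha => c_le_n B' fun b hb => cab hA (b3 hb) (a3 ha)) e
    have h3 := card_le_of_le (sup_le b3 a3)
    rw [h1, hc] at h3
    have := Nat.mul_le_mul (big B' b3 b4) (big B a3 a4)
    have h4 := h.hp.two_le
    nlinarith [Nat.mul_pos (Nat.mul_pos h.hp.pos h.hp.pos) h.hp.pos]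
  obtain ⟨⟨a, ha⟩, a1⟩ := ne_bot_iff_exists_ne_one.1 this
  have xa : x ∈ 𝐂[a] := cm1.2 (cab hA hx (a3 ha.1))
  exact ⟨_, h.cne fun e => a1 (Subtype.ext e), xa, cjm (le_normalizer (cm1.2 (ht.2 a ha.1).symm)) xa,
    cjm (le_normalizer (cm1.2 (hu.2 a ha.2).symm)) xa⟩

theorem caseE {b : G} (hb : b ∈ 𝐂[x]) (bp : b ^ p = 1) (nm : b ∉ zpowers x) : False := by
  by_cases h1 : ∀ f, IsConj x f → f ∈ 𝐂[x] → f ∈ zpowers x
  · exact h.JT h2 (h.el hb bp nm) fun f a1 a2 => mem_sup_left (h1 f a1 a2)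
  push Not at h1
  obtain ⟨f, f1, f2, f3⟩ := h1
  have fp := (h.of_conj f1).xp
  have hE := h.el f2 fp f3
  refine h.JT h2 hE fun f' g1 g2 => by_contra fun g3 => ?_
  have hL : Cl p (closure {d | IsConj x d ∧ d ∈ 𝐂[x]}) := cl_of_central h.hp fun r hr hne z hz pz => by
    rw [centralizer_closure]
    intro d hd
    exact (cm1.1 (comm_bot.1 (h.case1 h2 hd.1 hd.2 hr hne) (h.hA _ (h.cne h.x1) r hr hne z hz pz))).symm
  have xx : x ∈ 𝐂[x] := cm1.2 rfl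
  have fE : f ∈ zpowers x ⊔ zpowers f := mem_sup_right (mem_zpowers f)
  have k1 : zpowers x ⊔ zpowers f ≤ pCoreOf p (closure {d | IsConj x d ∧ d ∈ 𝐂[x]}) := sup_le
    (zpowers_le.2 (hL x (mem_DD (IsConj.refl x) xx) h.pe)) (zpowers_le.2 (hL f (mem_DD f1 f2) (h.of_conj f1).pe))
  have k2 : zpowers x ⊔ zpowers f ≤ closure {d | IsConj x d ∧ d ∈ zpowers x ⊔ zpowers f} :=
    sup_le (zpowers_le.2 (mem_DD (IsConj.refl x) hE.mem)) (zpowers_le.2 (mem_DD f1 fE))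
  obtain ⟨e, e1, e2, e3, e4⟩ := PC h.hp (H1.isPGroup_pCoreOf _) k1 k2
    g1 (hL f' (mem_DD g1 g2) (h.of_conj g1).pe) g3
  have eC : e ∈ 𝐂[x] := (closure_le _).2 (fun d hd => hd.2) (H1.pCoreOf_le _ e2)
  have ep := (h.of_conj e1).xp
  have hz := jone h.hp (c_nzp eC) (c_zp x ▸ f2) ep fp f3 (cjm e4 fE)
  by_cases z1 : ⁅e, f⁆ = 1
  · have : zpowers x ⊔ zpowers f ≤ 𝐂[e] := sup_le (zpowers_le.2 (cm1.2 (cm1.1 eC).symm)) (zpowers_le.2 (cm1.2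
        (commutatorElement_eq_one_iff_mul_comm.1 z1).symm))
    obtain ⟨a1, a2, a3⟩ := el_sup h.hp hE.ab hE.exp (fun y hy => cm1.1 (this hy)) ep e3
    exact h.rank3 h2 a1 a2 (by rw [a3, hE.card]) (mem_sup_left hE.mem)
  have it : ∀ n : ℕ, e ^ n * f * (e ^ n)⁻¹ = ⁅e, f⁆ ^ n * f := fun n => by
    induction n with
    | zero => simp
    | succ n ih =>
      have c : e * ⁅e, f⁆ ^ n = ⁅e, f⁆ ^ n * e := ((c_zp x ▸ eC : e ∈ 𝐂(zpowers x)) _ (pow_mem hz n)).symm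
      rw [pow_succ', show e * e ^ n * f * (e * e ^ n)⁻¹ = e * (e ^ n * f * (e ^ n)⁻¹) * e⁻¹ by group, ih,
        ← mul_assoc, c, pow_succ, commutatorElement_def]; group
  obtain ⟨H, b1, b2, -⟩ := h.h1 x
  refine b1 (h.GENE h2 hE b2 fun q hq hne a ha nm => ?_)
  obtain ⟨y, hy, m, e5⟩ := (H5.mem_sup_zpowers_iff_nat (c_nzp (hE.le ha))).1
    ((hE.two h.hp hE.mem ha h.x1 nm).ge fE)
  obtain ⟨n, hn⟩ := mem_powers_iff_mem_zpowers.2 ((c_eq h.hp h.xp hz z1).1.ge (inv_mem hy))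
  have e6 : e ^ n * f * (e ^ n)⁻¹ = a ^ m := by
    rw [it, show ⁅e, f⁆ ^ n = y⁻¹ from hn, e5, inv_mul_cancel_left]
  have c : IsConj x (a ^ m) := f1.trans (isConj_iff.2 ⟨_, e6⟩)
  have hg := h.of_conj c
  rw [← (c_eq h.hp (hE.exp a ha) (pow_mem (mem_zpowers a) m) hg.x1).2, hg.case1 h2 c.symm
    (cm1.2 (cab hE.ab hE.mem (pow_mem ha m))) hq hne]
  exact bot_le

end Cx

end H81.FB
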