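import Cfsg.Agent.Lib.FB.Base

/-! Flavell's `F₂` theorem, part 2: reduction to `F(G) = 1`. -/

set_option autoImplicit false
set_option linter.unusedSectionVars false

namespace H81.FB
open Subgroup H68 Cfsg
open scoped commutatorElement

local notation:max "𝐂(" A ")" => Subgroup.centralizer (SetLike.coe A)
local notation:max "𝐍(" A ")" => Subgroup.normalizer (SetLike.coe A)

universe u
variable {G : Type*} [Group G] {G' : Type*} [Group G'] {p q : ℕ}

/-- the minimal configuration -/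
structure Cx (p : ℕ) (x : G) : Prop where
  hp : p.Prime
  ho : orderOf x = p
  hO : ∀ q : ℕ, q.Prime → ∀ N : Subgroup G, IsPGroup q N → N ≠ ⊥ → 𝐍(N) ≠ ⊤
  hA : ∀ H : Subgroup G, H ≠ ⊤ → ∀ q : ℕ, q.Prime → q ≠ p →
    ∀ u ∈ closure {d | IsConj x d ∧ d ∈ H}, Pe q u → u ∈ pCoreOf q H
  h1 : ∀ y : G, ∃ H : Subgroup G, H ≠ ⊤ ∧ x ∈ H ∧ y ∈ H
  hN : ∀ M : Subgroup G, (∀ g : G, g * x * g⁻¹ ∈ M) → M = ⊤

theorem Pe.mul {a b : G} (ha : Pe q a) (hb : Pe q b) (h : Commute a b) : Pe q (a * b) := by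
  obtain ⟨i, hi⟩ := ha; obtain ⟨j, hj⟩ := hb
  exact ⟨i + j, by rw [h.mul_pow, pow_add, pow_mul, hi, one_pow, mul_comm, pow_mul, hj, one_pow, one_mul]⟩

theorem Pe.inv {a : G} (ha : Pe q a) : Pe q a⁻¹ := ha.of_zp (inv_mem (mem_zpowers a))

theorem nrm_top (N : Subgroup G) [h : N.Normal] (g : G) : g ∈ 𝐍(N) := by
  rw [normalizer_eq_top]; trivial

variable [Finite G]

theorem triv_of_central (hp : p.Prime) (hq : q.Prime) (hne : q ≠ p) {x : G} (px : Pe p x)
    (hN : ∀ M : Subgroup G, (∀ g : G, g * x * g⁻¹ ∈ M) → M = ⊤)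
    (h : ∀ u : G, Pe q u → u ∈ center G) {v : G} (pv : Pe q v) : v = 1 := by
  haveI := Fact.mk hq
  set φ := MonoidHom.transferCenterPow G
  have h1 : (zpowers (φ x)).comap φ = ⊤ := hN _ fun g => by
    rw [mem_comap, map_mul, map_mul, map_inv, show φ g * φ x = φ x * φ g from
      Subtype.ext ((φ x).2.comm _).eq.symm, mul_inv_cancel_right]; exact mem_zpowers _
  have h2 : φ v = 1 := (pv.map φ).eq_one hp hq hne ((px.map φ).of_zp (mem_comap.1 (h1 ▸ mem_top v)))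
  have h3 : v ^ (center G).index = 1 := by
    rw [← MonoidHom.transferCenterPow_apply]; exact congrArg Subtype.val h2
  have h4 : (center G).index.Coprime q := by
    refine ((Nat.Prime.coprime_iff_not_dvd hq).2 fun hd => ?_).symm
    obtain ⟨g, hg⟩ := exists_prime_orderOf_dvd_card' (G := G ⧸ center G) q hd
    obtain ⟨g, rfl⟩ := QuotientGroup.mk_surjective g
    obtain ⟨a, -, b, -, e, pa, cb⟩ := split hq g
    rw [e, QuotientGroup.mk_mul, (QuotientGroup.eq_one_iff a).2 (h a pa), one_mul] at hg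
    exact (Nat.Prime.coprime_iff_not_dvd hq).1 cb.symm
      (hg ▸ orderOf_map_dvd (QuotientGroup.mk' (center G)) b)
  exact mem_bot.1 (mem_of_pow (pv.cop h4) (mem_bot.2 h3))

theorem step0 (hp : p.Prime) (hq : q.Prime) (hne : q ≠ p) {x : G} (px : Pe p x)
    (hA : ∀ H : Subgroup G, H ≠ ⊤ → x ∈ H → Good p H x)
    (h1 : ∀ y : G, ∃ H : Subgroup G, H ≠ ⊤ ∧ x ∈ H ∧ y ∈ H)
    (hN : ∀ M : Subgroup G, (∀ g : G, g * x * g⁻¹ ∈ M) → M = ⊤)
    (hQ : ∀ N : Subgroup G, N.Normal → N ≠ ⊥ → ∃ R : Subgroup G, R.Normal ∧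
      (∀ u, Pe q u → u ∈ R) ∧ (∀ u ∈ R, ∃ k : ℕ, u ^ q ^ k ∈ N) ∧ N ≤ R)
    {r : ℕ} (hr : r.Prime) {N0 : Subgroup G} [N0.Normal] (h0 : IsPGroup r N0) (hb : N0 ≠ ⊥) :
    Cl q (⊤ : Subgroup G) := by
  haveI := Fact.mk hq; haveI := Fact.mk hr
  by_cases hO : pCore q G = ⊥
  swap
  · obtain ⟨R, hR, a1, a2, -⟩ := hQ _ inferInstance hO
    refine cl_of (O := R) (isPGroup_iff_forall.2 fun u hu => ?_) (fun g _ => nrm_top R g) fun u _ => a1 u
    obtain ⟨k, hk⟩ := a2 u hu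
    obtain ⟨j, hj⟩ := pe_of_mem H1.isPGroup_pCore hk
    exact ⟨k + j, by rw [pow_add, pow_mul, hj]⟩
  obtain ⟨N, hm, hle, hab, -⟩ := H3.exists_normal_elementary_le N0 hb (H1.isSolvable_of_isPGroup h0)
  haveI := hm.normal
  have hNr : IsPGroup r N := h0.to_le hle
  have hrq : q ≠ r := by
    rintro rfl; exact hm.ne_bot (le_bot_iff.1 (hO ▸ H1.le_pCore hNr))
  obtain ⟨R, hR, a1, a2, a3⟩ := hQ N hm.normal hm.ne_bot
  have one : ∀ v ∈ N, Pe q v → v = 1 := fun v hv pv => pv.eq_one hr hq hrq (pe_of_mem hNr hv)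
  have cN : ∀ a ∈ N, ∀ b ∈ N, a * b = b * a := fun a ha b hb =>
    congrArg Subtype.val (hab.is_comm.comm (⟨a, ha⟩ : N) ⟨b, hb⟩)
  have core : ∀ L : Subgroup G, L.Normal → pCoreOf q L = ⊥ := fun L _ => by
    rw [H1.pCoreOf_eq_inf, hO, bot_inf_eq]
  have hC : ∀ v, Pe q v → v ∈ 𝐂(N) → v = 1 := fun v pv hv => by
    have := cl_of_central hq (L := R ⊓ 𝐂(N)) (fun s hs hsq z hz pz y hy => by
      obtain ⟨k, hk⟩ := a2 z hz.1
      exact (hy.2 z (pz.mem hq hs hsq hk)).symm) v ⟨a1 v pv, hv⟩ pv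
    rwa [core _ inferInstance, mem_bot] at this
  have inN : ∀ b ∈ R, (orderOf b).Coprime q → b ∈ N := fun b hb cb =>
    let ⟨k, hk⟩ := a2 b hb; mem_of_pow (cb.symm.pow_left k) hk
  by_cases hx : ∀ u : G, Pe q u → ⁅u, x⁆ ∈ N
  · intro v _ pv
    have hz : ∀ w : G ⧸ N, Pe q w → w ∈ center (G ⧸ N) := by
      have lift : ∀ w : G ⧸ N, Pe q w → ∃ a : G, Pe q a ∧ w = a := fun w pw => by
        obtain ⟨g, rfl⟩ := QuotientGroup.mk_surjective w
        obtain ⟨a, -, b, hb, e, pa, cb⟩ := split hq g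
        have h2 : Pe q (b : G ⧸ N) := pw.of_zp (by obtain ⟨i, rfl⟩ := hb; exact ⟨i, by simp⟩)
        have h3 : (b : G ⧸ N) = 1 := mem_bot.1 (mem_of_pow (h2.cop cb) (by
          rw [← QuotientGroup.mk_pow, pow_orderOf_eq_one]; exact one_mem _))
        exact ⟨a, pa, by rw [e, QuotientGroup.mk_mul, h3, mul_one]⟩
      intro w pw
      have : (centralizer {w}).comap (QuotientGroup.mk' N) = ⊤ := hN _ fun g => by
        obtain ⟨a, pa, e⟩ := lift _ (pw.conj (g : G ⧸ N)⁻¹)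
        have h4 := (QuotientGroup.eq_one_iff _).2 (hx a pa)
        rw [← QuotientGroup.mk'_apply, map_commutatorElement, commutatorElement_eq_one_iff_mul_comm] at h4
        simp only [QuotientGroup.mk'_apply, ← e, inv_inv] at h4
        rw [mem_comap, mem_centralizer_singleton_iff]
        simp only [QuotientGroup.mk'_apply, QuotientGroup.mk_mul, QuotientGroup.mk_inv]
        calc _ = (g : G ⧸ N) * ((x : G ⧸ N) * ((g : G ⧸ N)⁻¹ * w * g)) * (g : G ⧸ N)⁻¹ := by group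
          _ = _ := by rw [← h4]; group
      rw [mem_center_iff]; intro g
      obtain ⟨g, rfl⟩ := QuotientGroup.mk_surjective g
      exact mem_centralizer_singleton_iff.1 (mem_comap.1 (this ▸ mem_top g))
    have := triv_of_central hp hq hne (px.map (QuotientGroup.mk' N)) (fun M hM => by
      rw [← map_comap_eq_self_of_surjective (QuotientGroup.mk'_surjective N) M,
        hN (M.comap (QuotientGroup.mk' N)) fun g => by simpa using hM g]
      exact map_top_of_surjective _ (QuotientGroup.mk'_surjective N)) hz (pv.map (QuotientGroup.mk' N))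
    rw [one v ((QuotientGroup.eq_one_iff v).1 this) pv]; exact one_mem _
  exfalso
  push Not at hx
  obtain ⟨u, pu, hu⟩ := hx
  have key : ∀ y : G, y * u⁻¹ ∈ N → ∃ H : Subgroup G, x ∈ H ∧ y ∈ H ∧ H ⊓ N = ⊥ ∧
      (∀ g : G, ∃ n ∈ N, ∃ h ∈ H, g = n * h) ∧ SylowIn q (H ⊓ R) ⊤ ∧ y ∈ R := by
    intro y hy
    obtain ⟨H, hH, hxH, hyH⟩ := h1 y
    have t : N ⊔ H = ⊤ := by
      by_contra hne'
      obtain ⟨L, b1, b2, b3, b4⟩ := hA _ hne' (mem_sup_right hxH) q hq hne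
      have huH : u ∈ N ⊔ H := by
        have : u = (y * u⁻¹)⁻¹ * y := by group
        rw [this]; exact mul_mem (mem_sup_left (inv_mem hy)) (mem_sup_right hyH)
      obtain ⟨a, ha, b, hb, e, pa, cb⟩ := split hq ⁅u, x⁆
      have haO := b4 a (zpowers_le.2 (cr (b3 huH) b1) ha) pa
      have : a = 1 := hC a pa fun n hn => (comm_of hr hq hrq hNr (H1.isPGroup_pCoreOf L) hn haO
        (H1.normalizer_le_normalizer_pCoreOf L (b3 (mem_sup_left hn))) (nrm_top N a)).eq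
      rw [this, one_mul] at e
      exact hu (e ▸ inN b (zpowers_le.2 (cl (a1 u pu) (nrm_top R x)) hb) cb)
    have dec : ∀ g : G, ∃ n ∈ N, ∃ h ∈ H, g = n * h := fun g =>
      (mem_sup_of_le_normalizer' fun h _ => nrm_top N h).1 (t ▸ mem_top g)
    have hHN : H ⊓ N = ⊥ := by
      have : (H ⊓ N).Normal := ⟨fun a ha g => by
        obtain ⟨n, hn, h, hh, rfl⟩ := dec g
        have h2 : h * a * h⁻¹ ∈ H ⊓ N := ⟨H.mul_mem (H.mul_mem hh ha.1) (H.inv_mem hh), cjm (nrm_top N h) ha.2⟩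
        have : n * h * a * (n * h)⁻¹ = h * a * h⁻¹ := by
          rw [show n * h * a * (n * h)⁻¹ = n * (h * a * h⁻¹) * n⁻¹ by group, cN n hn _ h2.2]; group
        rw [this]; exact h2⟩
      rcases hm.inf_eq_bot_or_le (H ⊓ N) with h | h
      · rw [← h]; exact (inf_eq_right.2 inf_le_right).symm
      · exact absurd (t ▸ sup_eq_right.2 (h.trans inf_le_left)).symm hH
    have hyR : y ∈ R := by
      have : y = y * u⁻¹ * u := by group
      rw [this]; exact mul_mem (a3 hy) (a1 u pu)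
    refine ⟨H, hxH, hyH, hHN, dec, ⟨le_top, isPGroup_iff_forall.2 fun v hv => ?_, fun P hP h2 _ => ?_⟩, hyR⟩
    · obtain ⟨k, hk⟩ := a2 v hv.2
      exact ⟨k, mem_bot.1 (hHN ▸ ⟨pow_mem hv.1 _, hk⟩)⟩
    · refine le_antisymm (fun v hv => ?_) h2
      obtain ⟨n, hn, h, hh, rfl⟩ := dec v
      have hhR : h ∈ R := (mul_mem_cancel_left (a3 hn)).1 (a1 _ (pe_of_mem hP hv))
      rw [one n hn (pe_of_mem hP ((mul_mem_cancel_right (h2 ⟨hh, hhR⟩)).1 hv)), one_mul]
      exact ⟨hh, hhR⟩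
  obtain ⟨H0, x0, u0, d0, dec0, s0, uR⟩ := key u (by simp)
  have cu : ∀ n ∈ N, Commute n u → n = 1 := fun n hn hc => by
    obtain ⟨H, -, b1, -, -, s, b2⟩ := key (n * u) (by simpa using hn)
    have := (pe_of_mem s.isPGroup ⟨b1, b2⟩).mul pu.inv (hc.mul_left (Commute.refl u)).inv_right
    exact one n hn (by simpa using this)
  have n0 : H0 ≤ 𝐍(H0 ⊓ R) := H2.le_normalizer_inf le_normalizer fun h _ => nrm_top R h
  have hm' : ∀ m ∈ N, m⁻¹ * x * m ∈ 𝐍(H0 ⊓ R) := fun m hm => by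
    obtain ⟨H, b0, b1, -, -, s, b2⟩ := key (m * u * m⁻¹) (cl hm (nrm_top N u))
    obtain ⟨g, -, hg⟩ := s0.exists_cj_eq s
    obtain ⟨n, hn, h, hh, rfl⟩ := dec0 g
    rw [cj_mul, cj_eq_of_mem_normalizer (n0 hh)] at hg
    have h2 : n⁻¹ * (m * u * m⁻¹) * n ∈ H0 ⊓ R := mem_cj.1 (hg ▸ ⟨b1, b2⟩)
    have h3 : ⁅n⁻¹ * m, u⁆ = 1 := mem_bot.1 (d0 ▸ ⟨by
      have : ⁅n⁻¹ * m, u⁆ = n⁻¹ * (m * u * m⁻¹) * n * u⁻¹ := by rw [commutatorElement_def]; group
      rw [this]; exact H0.mul_mem h2.1 (H0.inv_mem u0), cl (mul_mem (inv_mem hn) hm) (nrm_top N u)⟩)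
    have h4 := cu _ (mul_mem (inv_mem hn) hm) (commutatorElement_eq_one_iff_commute.1 h3)
    rw [inv_mul_eq_one] at h4
    rw [← mem_cj, cj_normalizer, ← h4, hg]
    exact H2.le_normalizer_inf le_normalizer (fun h _ => nrm_top R h) b0
  have top : 𝐍(H0 ⊓ R) = ⊤ := hN _ fun g => by
    obtain ⟨n, hn, h, hh, e⟩ := dec0 g⁻¹
    rw [← inv_inv g, e, show (n * h)⁻¹ * x * (n * h)⁻¹⁻¹ = h⁻¹ * (n⁻¹ * x * n) * h by group]
    exact mul_mem (mul_mem (inv_mem (n0 hh)) (hm' n hn)) (n0 hh)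
  haveI := normalizer_eq_top_iff.1 top
  have : u = 1 := mem_bot.1 (hO ▸ H1.le_pCore s0.isPGroup ⟨u0, uR⟩)
  exact hu (by simp [this])

/-- the local hypothesis -/
def Hyp (p : ℕ) (x : G) : Prop := ∀ y : G, ∃ H : Subgroup G, x ∈ H ∧ y ∈ H ∧ Good p H x

theorem eqns_Red : True := by have := @Hyp.eq_1.{0}; trivial

theorem Hyp.map {x : G} (h : Hyp p x) {f : G →* G'} (hf : Function.Surjective f) : Hyp p (f x) := fun y => by
  obtain ⟨y, rfl⟩ := hf y
  obtain ⟨H, a1, a2, a3⟩ := h y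
  exact ⟨H.map f, mem_map_of_mem f a1, mem_map_of_mem f a2, a3.map f⟩

theorem Hyp.sub {x : G} (h : Hyp p x) {H : Subgroup G} (hx : x ∈ H) : Hyp p (⟨x, hx⟩ : H) := fun y => by
  obtain ⟨K, a1, a2, a3⟩ := h y
  refine ⟨K.subgroupOf H, a1, a2, Good.of_map H.subtype_injective ?_⟩
  rw [subgroupOf_map_subtype]; exact a3.mono inf_le_left ⟨a1, hx⟩

theorem not_good (hp : p.Prime) {z : G} (hz : z ≠ 1)
    (hO : ∀ q : ℕ, q.Prime → ∀ N : Subgroup G, IsPGroup q N → N ≠ ⊥ → 𝐍(N) ≠ ⊤) : ¬ Good p ⊤ z := by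
  intro h
  refine hO p hp (normalClosure {z}) (isPGroup_iff_forall.2 fun l hl => ?_) (fun e => hz (mem_bot.1
    (e ▸ subset_normalClosure rfl))) (normalizer_eq_top _)
  refine pow_mem_of_parts (M := ⊥) hp l fun r hr hne w hw pw => ?_
  obtain ⟨L, a1, -, a3, a4⟩ := h r hr hne
  haveI := normalizer_eq_top_iff.1 (top_le_iff.1 a3)
  have := a4 w (normalClosure_le_normal (Set.singleton_subset_iff.2 a1) (zpowers_le.2 hl hw)) pw
  by_contra h0
  exact hO r hr _ (H1.isPGroup_pCoreOf L) (fun e => h0 (e ▸ this))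
    (top_le_iff.1 (a3.trans (H1.normalizer_le_normalizer_pCoreOf L)))

theorem main (hp : p.Prime) (core : ∀ (G : Type u) [Group G] [Finite G] (x : G), ¬ Cx p x) (n : ℕ) :
    ∀ (G : Type u) [Group G] [Finite G] (x : G), Nat.card G = n → Pe p x → Hyp p x → Good p ⊤ x := by
  induction' n using Nat.strong_induction_on with n ih
  intro G _ _ x hn px hx
  have sub : ∀ z : G, Pe p z → Hyp p z → ∀ H : Subgroup G, H ≠ ⊤ → z ∈ H → Good p H z := fun z pz hz H hH h => by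
    have := (ih _ (hn ▸ H1.card_lt_of_ne_top hH) H ⟨z, h⟩ rfl (Pe.of_map H.subtype_injective pz)
      (hz.sub h)).map H.subtype
    rwa [← MonoidHom.range_eq_map, range_subtype] at this
  have pre : ∀ z : G, Pe p z → Hyp p z → ¬ Good p ⊤ z →
      (∀ y : G, ∃ H : Subgroup G, H ≠ ⊤ ∧ z ∈ H ∧ y ∈ H) ∧
      ∀ M : Subgroup G, (∀ g : G, g * z * g⁻¹ ∈ M) → M = ⊤ := fun z pz hz hg => by
    refine ⟨fun y => ?_, fun M hM => ?_⟩
    · obtain ⟨H, a1, a2, a3⟩ := hz y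
      exact ⟨H, fun e => hg (e ▸ a3), a1, a2⟩
    · by_contra hne
      have hle : normalClosure {z} ≤ M := (closure_le M).2 fun d hd => by
        obtain ⟨a, rfl, g, rfl⟩ := by simpa only [Group.mem_conjugatesOfSet_iff, Set.mem_singleton_iff, isConj_iff] using hd
        exact hM g
      exact hg ((sub z pz hz _ (fun e => hne (top_le_iff.1 (e ▸ hle))) (subset_normalClosure rfl)).trans
        le_top fun g _ => nrm_top _ g)
  by_contra hg
  by_cases hO : ∀ q : ℕ, q.Prime → ∀ N : Subgroup G, IsPGroup q N → N ≠ ⊥ → 𝐍(N) ≠ ⊤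
  · have x1 : x ≠ 1 := by
      rintro rfl
      exact hg fun q _ _ => ⟨⊥, one_mem _, bot_le, fun g _ => nrm_top _ g,
        fun u hu _ => by rw [mem_bot.1 hu]; exact one_mem _⟩
    haveI := Fact.mk hp
    obtain ⟨z, hz, ho⟩ := H1.exists_mem_orderOf_eq_prime hp
      (dvd_card_of_isPGroup_of_ne_bot px.zp (zpowers_ne_bot.2 x1) le_rfl)
    have pz := px.of_zp hz
    have hyz : Hyp p z := fun y => let ⟨H, a1, a2, a3⟩ := hx y; ⟨H, zpowers_le.2 a1 hz, a2, a3.zp hz⟩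
    have z1 : z ≠ 1 := by rintro rfl; exact hp.one_lt.ne (by simpa using ho)
    obtain ⟨b1, b2⟩ := pre z pz hyz (not_good hp z1 hO)
    refine core G z ⟨hp, ho, hO, fun H hH q hq hne u hu pu => core_of_good ?_ hq hne hu pu, b1, b2⟩
    rintro d ⟨hd, hdH⟩
    obtain ⟨g, rfl⟩ := isConj_iff.1 hd
    exact sub _ (pz.conj g) (hyz.map (f := (MulAut.conj g).toMonoidHom) (MulAut.conj g).surjective) H hH hdH
  push Not at hO
  obtain ⟨r, hr, N, h0, hb, ht⟩ := hO
  haveI := normalizer_eq_top_iff.1 ht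
  obtain ⟨b1, b2⟩ := pre x px hx hg
  refine hg fun q hq hne => ⟨⊤, trivial, le_rfl, le_normalizer, step0 hp hq hne px (sub x px hx) b1 b2
    (fun M hM hMb => ?_) hr h0 hb⟩
  obtain ⟨L, a1, -, a3, a4⟩ := ih _ (hn ▸ H3.card_quotient_lt M hMb) (G ⧸ M) _ rfl
    (px.map (QuotientGroup.mk' M)) (hx.map (QuotientGroup.mk'_surjective M)) q hq hne
  haveI := normalizer_eq_top_iff.1 (top_le_iff.1 a3)
  have hL : L.comap (QuotientGroup.mk' M) = ⊤ := b2 _ fun g => by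
    rw [mem_comap, map_mul, map_mul, map_inv]; exact cjm (nrm_top L _) a1
  haveI := normalizer_eq_top_iff.1 (top_le_iff.1 (a3.trans (H1.normalizer_le_normalizer_pCoreOf (p := q) L)))
  refine ⟨(pCoreOf q L).comap (QuotientGroup.mk' M), inferInstance, fun u pu =>
    a4 _ (mem_comap.1 (hL ▸ mem_top u)) (pu.map _), fun u hu => ?_, fun u hu => ?_⟩
  · obtain ⟨k, hk⟩ := pe_of_mem (H1.isPGroup_pCoreOf L) hu
    exact ⟨k, (QuotientGroup.eq_one_iff _).1 (by simpa using hk)⟩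
  · rw [mem_comap, QuotientGroup.mk'_apply, (QuotientGroup.eq_one_iff u).2 hu]; exact one_mem _

theorem good_of_mem (hp : p.Prime) {x : G} (px : Pe p x)
    (h : x ∈ (fittingSubgroup (G ⧸ fittingSubgroup G)).comap (QuotientGroup.mk' _)) : Good p ⊤ x := by
  haveI := Fact.mk hp
  intro q hq hne
  haveI := Fact.mk hq
  refine ⟨(pCore p (G ⧸ fittingSubgroup G)).comap (QuotientGroup.mk' _),
    H1.le_pCore_of_le_fitting (px.map _).zp (zpowers_le.2 h) (mem_zpowers _), le_top,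
    fun g _ => nrm_top _ g, cl_of (H1.isPGroup_pCore (p := q)) (fun g _ => nrm_top _ g) fun u hu pu => ?_⟩
  have := (pu.map (QuotientGroup.mk' (fittingSubgroup G))).eq_one hp hq hne (pe_of_mem H1.isPGroup_pCore hu)
  exact H1.le_pCore_of_le_fitting pu.zp (zpowers_le.2 ((QuotientGroup.eq_one_iff u).1 this)) (mem_zpowers _)

theorem mem_of_good (hp : p.Prime) {x : G} (h : Good p ⊤ x) :
    x ∈ (fittingSubgroup (G ⧸ fittingSubgroup G)).comap (QuotientGroup.mk' _) := by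
  haveI := Fact.mk hp
  haveI := (normalClosure_normal (s := ({x} : Set G))).map _ (QuotientGroup.mk'_surjective (fittingSubgroup G))
  refine (H1.le_pCore (p := p) (N := (normalClosure {x}).map (QuotientGroup.mk' (fittingSubgroup G)))
    (isPGroup_iff_forall.2 ?_)).trans (H1.pCore_le_fitting p) (mem_map_of_mem _ (subset_normalClosure rfl))
  rintro _ ⟨l, hl, rfl⟩
  obtain ⟨k, hk⟩ := pow_mem_of_parts (M := fittingSubgroup G) hp l fun r hr hne w hw pw => by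
    obtain ⟨L, a1, a2, a3, a4⟩ := h r hr hne
    haveI := normalizer_eq_top_iff.1 (top_le_iff.1 a3)
    haveI := Fact.mk hr
    have := core_le a2 a3 (a4 w (normalClosure_le_normal (Set.singleton_subset_iff.2 a1) (zpowers_le.2 hl hw)) pw)
    rw [H1.pCoreOf_top] at this
    exact H1.pCore_le_fitting r this
  exact ⟨k, by rw [← map_pow]; exact (QuotientGroup.eq_one_iff _).2 hk⟩

end H81.FB
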