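import Cfsg.Agent.Lib.FB.OddE
import Cfsg.Agent.S0215
import Cfsg.Agent.S0205

/-! Flavell's `F₂` theorem, part 6: involutions. -/

set_option autoImplicit false
set_option linter.unusedSectionVars false

namespace H81.FB
open Subgroup H68 Cfsg
open scoped commutatorElement

local notation:max "𝐂(" A ")" => Subgroup.centralizer (SetLike.coe A)
local notation:max "𝐍(" A ")" => Subgroup.normalizer (SetLike.coe A)
local notation:max "𝐂[" x "]" => Subgroup.centralizer (Singleton.singleton x)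

variable {G : Type*} [Group G] [Finite G] {q : ℕ}

theorem zp_two {x y : G} (h : x ^ 2 = 1) (hy : y ∈ zpowers x) : y = 1 ∨ y = x := by
  obtain ⟨n, rfl⟩ := mem_powers_iff_mem_zpowers.2 hy
  obtain ⟨k, rfl | rfl⟩ := Nat.even_or_odd' n <;> simp [pow_succ, pow_mul, h]

namespace Cx
variable {x : G} (h : Cx 2 x)
include h

theorem iso (hi : ∀ f, IsConj x f → f ∈ 𝐂[x] → f ∈ zpowers x) : False := by
  obtain ⟨P, hP⟩ := h.pe.zp.exists_le_sylow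
  obtain ⟨N, hN, ho, hc⟩ := Cfsg.Agent.S0215.result P x h.ho (hP (mem_zpowers x)) fun g hg => by
    have c : IsConj x (g * x * g⁻¹) := isConj_iff.2 ⟨g, rfl⟩
    refine (zp_two h.xp (by_contra fun nm => ?_)).resolve_left (h.of_conj c).x1
    obtain ⟨e, e1, -, e3, e4⟩ := PC h.hp P.isPGroup' hP (zpowers_le.2 (mem_DD (IsConj.refl _)
      (mem_zpowers _))) c hg nm
    exact e3 (hi e e1 (cm1.2 (commutatorElement_eq_one_iff_mul_comm.1 (mem_bot.1 (jone h.hp (N := ⊥)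
      (nrm_top _ e) (fun y hy => by rw [mem_bot.1 hy]; simp) (h.of_conj e1).xp h.xp (by simpa using h.x1)
      (mem_sup_right (cjm e4 (mem_zpowers _))))))))
  by_cases hb : N = ⊥
  · refine h.cne h.x1 (top_le_iff.1 fun g _ => cm1.2 ?_)
    exact (commutatorElement_eq_one_iff_mul_comm.1 (mem_bot.1 (hb ▸ hc g))).symm
  obtain ⟨M, hM, -, -, r, hr, -, -, pM⟩ := H3.exists_normal_elementary_le N hb (Cfsg.Agent.S0205.result ho)
  haveI := hM.normal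
  exact h.hO r hr M pM hM.ne_bot (normalizer_eq_top M)

theorem pr {e t u : G} (he : IsConj x e) (hc : e ∈ 𝐂[x]) (ht : t ∈ 𝐂[e]) (hq : q.Prime) (hne : q ≠ 2)
    (hu : u ∈ pCoreOf q 𝐂[x * e]) :
    ∃ H : Subgroup G, H ≠ ⊤ ∧ x ∈ H ∧ e ∈ H ∧ t * x * t⁻¹ ∈ H ∧ u * x * u⁻¹ ∈ H := by
  have hd := h.of_conj he
  have c := cm1.1 hc
  have x2 : x⁻¹ = x := inv_eq_of_mul_eq_one_right (by rw [← pow_two, h.xp])
  have e2 : e⁻¹ = e := inv_eq_of_mul_eq_one_right (by rw [← pow_two, hd.xp])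
  have xe : x ∈ 𝐂[e] := cm1.2 c.symm
  have cu := cm1.1 (H1.pCoreOf_le _ hu)
  obtain ⟨H, a1, a2, a3, a4⟩ := hd.B hq hne (H1.isPGroup_pCoreOf 𝐂[x * e])
    (n_core (cm1.2 (by rw [← mul_assoc, c]))) hu (cl ht (c_nc xe))
  let J := closure {e, u * e * u⁻¹, ⁅t, x⁆}
  have j1 : e ∈ J := subset_closure (by simp)
  have j2 : u * e * u⁻¹ ∈ J := subset_closure (by simp)
  have j3 : ⁅t, x⁆ ∈ J := subset_closure (by simp)
  have k : u * x * u⁻¹ = u * e * u⁻¹ * (x * e) := by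
    rw [show u * e * u⁻¹ * (x * e) = u * e * (u⁻¹ * (x * e) * u) * u⁻¹ by group, mul_assoc u⁻¹, ← cu,
      inv_mul_cancel_left, ← c, mul_assoc u e, ← mul_assoc e, ← pow_two, hd.xp, one_mul]
  have xJ : x ∈ 𝐍(J) := by
    refine mem_normalizer_of_cj_le ?_
    rw [cj, MonoidHom.map_closure, closure_le]
    rintro _ ⟨s, rfl | rfl | rfl, rfl⟩
    · change x * s * x⁻¹ ∈ J
      rw [← c, mul_inv_cancel_right]; exact j1
    · change x * (u * e * u⁻¹) * x⁻¹ ∈ J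
      have c2 : Commute (x * e) (u * e * u⁻¹) :=
        ((Commute.symm cu).mul_right (show x * e * e = e * (x * e) by rw [← mul_assoc, c])).mul_right
          (Commute.symm cu).inv_right
      rw [show x * (u * e * u⁻¹) * x⁻¹ = x * e * (e⁻¹ * (u * e * u⁻¹) * e) * (x * e)⁻¹ by group]
      have c3 : Commute (x * e) e := show x * e * e = e * (x * e) by rw [← mul_assoc, c]
      rw [((c3.inv_right.mul_right c2).mul_right c3).eq, mul_inv_cancel_right]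
      exact mul_mem (mul_mem (inv_mem j1) j2) j1
    · change x * ⁅t, x⁆ * x⁻¹ ∈ J
      rw [show x * ⁅t, x⁆ * x⁻¹ = ⁅t, x⁆⁻¹ * (t * (x * x) * t⁻¹) * (x * x)⁻¹ by
        simp only [commutatorElement_def]; group, ← pow_two, h.xp]
      simpa using inv_mem j3
  have xH : x ∈ J ⊔ zpowers x := mem_sup_right (mem_zpowers x)
  refine ⟨J ⊔ zpowers x, fun e' => a1 (top_le_iff.1 ?_), xH, mem_sup_left j1, ?_, ?_⟩
  · have : 𝐍(J) = ⊤ := top_le_iff.1 (e' ▸ sup_le le_normalizer (zpowers_le.2 xJ))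
    rw [← hd.hN J fun g => cjm (this ▸ mem_top g) j1, closure_le]
    rintro _ (rfl | rfl | rfl) <;> assumption
  · simpa [commutatorElement_def] using mul_mem (mem_sup_left j3) xH
  · rw [k]; exact mul_mem (mem_sup_left j2) (mul_mem xH (mem_sup_left j1))

theorem two : False := by
  refine h.iso fun e he hc => by_contra fun nm => ?_
  have hd := h.of_conj he
  have hE := h.el hc hd.xp nm
  have eE : e ∈ zpowers x ⊔ zpowers e := mem_sup_right (mem_zpowers e)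
  set E := zpowers x ⊔ zpowers e with hEd
  have cs : ∀ a ∈ E, a ∉ zpowers x → a = e ∨ a = x * e := fun a ha nm => by
    obtain ⟨y, hy, z, hz, rfl⟩ := (mem_sup_of_le_normalizer' (zpowers_le.2 (c_nzp hc))).1 ha
    rcases zp_two hd.xp hz with rfl | rfl
    · exact absurd (by simpa using hy) nm
    · rcases zp_two h.xp hy with rfl | rfl <;> simp
  have EC : ∀ a ∈ E, E ≤ 𝐂[a] := fun a ha b hb => cm1.2 (cab hE.ab hb ha)
  have pp : ∀ q r : ℕ, q.Prime → q ≠ 2 → r.Prime → r ≠ 2 → ∀ a ∈ E, a ∉ zpowers x → ∀ b ∈ E, b ∉ zpowers x →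
      ∀ t ∈ pCoreOf q 𝐂[a], ∀ u ∈ pCoreOf r 𝐂[b],
      ∃ H : Subgroup G, H ≠ ⊤ ∧ x ∈ H ∧ e ∈ H ∧ t * x * t⁻¹ ∈ H ∧ u * x * u⁻¹ ∈ H := by
    intro q r hq hne hr hne' a ha na b hb nb t ht u hu
    by_cases hab : a = b
    · subst hab
      have xa := EC a ha hE.mem
      exact ⟨_, h.cne fun e : a = 1 => na (e ▸ one_mem _), xa, EC a ha eE, cjm (le_normalizer (H1.pCoreOf_le _ ht)) xa,
        cjm (le_normalizer (H1.pCoreOf_le _ hu)) xa⟩
    rcases cs a ha na with rfl | rfl <;> rcases cs b hb nb with e' | e'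
    · exact absurd e'.symm hab
    · exact h.pr he hc (H1.pCoreOf_le _ ht) hr hne' (e' ▸ hu)
    · obtain ⟨H, a1, a2, a3, a4, a5⟩ := h.pr he hc (H1.pCoreOf_le _ (e' ▸ hu)) hq hne ht
      exact ⟨H, a1, a2, a3, a5, a4⟩
    · exact absurd e'.symm hab
  refine h.FIN0 {V | V.1.Prime ∧ V.1 ≠ 2 ∧ ∃ a ∈ E, a ∉ zpowers x ∧ V.2 = pCoreOf V.1 𝐂[a]}
    (fun V hV => hV.1) (fun M hxM hM => h.GEN hxM fun q hq hne T hT hx => comm_le (le_normalizer hxM)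
      fun t ht => ?_) ?_ ?_
  · obtain ⟨H, a1, a2, a3, a4⟩ := h.B hq hne hT hx ht hc
    exact h.hypE hE hq hne (H1.isPGroup_pCoreOf H) (sup_le (zpowers_le.2 (n_core a2)) (zpowers_le.2 (n_core a4)))
      (fun a ha nm => hM (q, _) ⟨hq, hne, a, ha, nm, rfl⟩) (h.A1 a1 hq hne a2 a3 (pe_of_mem hT (cl ht hx)))
  · rintro ⟨q, V⟩ ⟨hq, hne, a, ha, na, (rfl : V = pCoreOf q 𝐂[a])⟩ ⟨r, W⟩
      ⟨hr, hne', b, hb, nb, (rfl : W = pCoreOf r 𝐂[b])⟩ hqr
    refine h.pair hq hne hr hne' hqr (H1.isPGroup_pCoreOf _) (n_core (EC a ha hE.mem))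
      (H1.isPGroup_pCoreOf _) (n_core (EC b hb hE.mem)) fun t ht u hu => ?_
    obtain ⟨H, a1, a2, -, a4⟩ := pp q r hq hne hr hne' a ha na b hb nb t ht u hu
    exact ⟨H, a1, a2, a4⟩
  rintro ⟨q, V⟩ ⟨hq, hne, a, ha, na, (rfl : V = pCoreOf q 𝐂[a])⟩ hb
  change q.Prime at hq; change q ≠ 2 at hne
  haveI := Fact.mk hq
  let F : Set (Subgroup G) := {S | IsPGroup q S ∧ E ≤ 𝐍(S)}
  have tl : ∀ S S' : Subgroup G, Maximal (· ∈ F) S → Maximal (· ∈ F) S' → ∀ w ∈ S, w ∈ S' → w ≠ 1 →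
      ∃ g ∈ 𝐂(E), cj g S' = S := fun S S' hS hS' w w1 w2 w3 => by
    refine TL hq F 𝐂(E) (fun S hS => hS.1) (fun g hg S hS => ⟨isPGroup_cj g hS.1, ?_⟩)
      (fun S hS S' hS' => ⟨hS.1.to_le inf_le_left, H2.le_normalizer_inf hS.2 hS'.2⟩)
      (fun S hS I hI => ⟨hS.1.to_le inf_le_left, fun a ha => n_inf (hS.2 ha) (n_n (hI.2 ha))⟩)
      (fun I hI hb U hU U' hU' n1 n2 => ?_) hS hS' (ne_bot_of (A := S ⊓ S') ⟨w1, w2⟩ w3)
    · rw [← cj_normalizer, ← cj_eq_of_mem_normalizer (c_le_n E hg)]; exact cj_mono g hS.2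
    have hN := h.hO q hq I hI.1 hb
    obtain ⟨R, hR, r1⟩ := exists_sylowIn_ge (H := 𝐍(I) ⊓ 𝐂(E)) (hU.1.to_le (inf_le_left : U ⊓ 𝐂(E) ≤ U))
      (inf_le_inf_right _ n1)
    obtain ⟨g, hg, r2⟩ := hR.exists_cj_le (hU'.1.to_le (inf_le_left : U' ⊓ 𝐂(E) ≤ U')) (inf_le_inf_right _ n2)
    have dc : ∀ U ∈ F, U ≤ 𝐍(I) → U ≤ pCoreOf q 𝐍(I) ⊔ (U ⊓ 𝐂(E)) := fun U hU n => by
      refine (H2.commutator_sup_centralizer hU.2 (cop_card h.hp hq hne hE.pg hU.1)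
        (Or.inr (H1.isSolvable_of_isPGroup hU.1))).ge.trans (sup_le_sup_right (commutator_le.2 fun u hu a ha => ?_) _)
      exact h.a' hN hq hne (sup_le (zpowers_le.2 (mem_DD (IsConj.refl x) (hI.2 hE.mem)))
        (zpowers_le.2 (mem_DD he (hI.2 eE))) ha) hU.1 n (hU.2 ha) (mem_comm a hu)
    refine ⟨g, hg.2, hg.1, pCoreOf q 𝐍(I) ⊔ R, ⟨(H1.isPGroup_pCoreOf _).to_sup_of_normal_left' hR.isPGroup
      fun y hy => n_core (hR.le hy).1, fun a ha => n_sup (n_core (hI.2 ha)) (c_le_n R fun y hy =>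
        ((hR.le hy).2 a ha).symm)⟩, (dc U hU n1).trans (sup_le_sup_left r1 _), (cj_mono g (dc U' hU' n2)).trans ?_⟩
    rw [cj_sup, cj_eq_of_mem_normalizer (n_core hg.1)]; exact sup_le_sup_left r2 _
  have mF : ∀ H : Subgroup G, E ≤ H → pCoreOf q H ∈ F := fun H hH => ⟨H1.isPGroup_pCoreOf H, fun a ha => n_core (hH ha)⟩
  obtain ⟨S, c1, c2⟩ := Finite.exists_le_maximal (p := (· ∈ F)) (mF _ (EC a ha))
  refine ⟨S, c2.1.1, ?_⟩
  rintro ⟨r, W⟩ ⟨-, -, b, hb', nb, (rfl : W = pCoreOf r 𝐂[b])⟩ (rfl : r = q)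
  by_cases h0 : ⁅pCoreOf r 𝐂[b], zpowers x⁆ = ⊥
  · exact h0.le.trans bot_le
  obtain ⟨t, ht, t1⟩ := ex_comm hb
  obtain ⟨u, hu, u1⟩ := ex_comm h0
  obtain ⟨H, a1, a2, a3, a4, a5⟩ := pp r r hq hne hq hne a ha na b hb' nb t ht u hu
  obtain ⟨S1, d1, d2⟩ := Finite.exists_le_maximal (p := (· ∈ F)) (mF _ (EC b hb'))
  obtain ⟨S2, f1, f2⟩ := Finite.exists_le_maximal (p := (· ∈ F)) (mF H (sup_le (zpowers_le.2 a2) (zpowers_le.2 a3)))
  have m1 := cl ht (n_core (EC a ha hE.mem))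
  have m2 := cl hu (n_core (EC b hb' hE.mem))
  obtain ⟨g1, g2, g3⟩ := tl S S2 c2 f2 _ (c1 m1) (f1 (comm_le_self (n_core a2)
    (h.A1 a1 hq hne a2 a4 (pe_of_mem (H1.isPGroup_pCoreOf _) m1)))) t1
  obtain ⟨k1, k2, k3⟩ := tl S2 S1 f2 d2 _ (f1 (comm_le_self (n_core a2)
    (h.A1 a1 hq hne a2 a5 (pe_of_mem (H1.isPGroup_pCoreOf _) m2)))) (d1 m2) u1
  refine (comm_le_self (n_core (EC b hb' hE.mem))).trans ?_
  rw [← g3, ← k3, ← cj_mul, ← cj_eq_of_mem_normalizer (n_core (cm1.2 ((mul_mem g2 k2) b hb').symm))]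
  exact cj_mono _ d1

end Cx

end H81.FB
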